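import Groth.Prelude.Def_W4bk4goldsch23FF
import Mathlib.RingTheory.AlgebraicIndependent.TranscendenceBasis
import Mathlib.FieldTheory.IntermediateField.Adjoin.Algebra
import Mathlib.FieldTheory.IntermediateField.Adjoin.Basic
import Mathlib.RingTheory.Localization.Module
import Mathlib.RingTheory.Valuation.LocalSubring
import Mathlib.RingTheory.DiscreteValuationRing.TFAE
import Mathlib.RingTheory.DedekindDomain.AdicValuation
import Mathlib.RingTheory.Bezout

/-! helper16: foundations for function fields of one variable (`FunFld`). -/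

open IntermediateField Polynomial

namespace Groth.Agent.Lib.Helper16.FunFldLib

variable {k K : Type*} [Field k] [Field K] [Algebra k K]

open IntermediateField.algebraAdjoinAdjoin in
theorem isAlgebraic_adjoin_of_finiteDimensional {t : K}
    (h : FiniteDimensional k⟮t⟯ K) : Algebra.IsAlgebraic (Algebra.adjoin k {t}) K := by
  have : Algebra.IsAlgebraic k⟮t⟯ K := Algebra.IsAlgebraic.of_finite _ _
  exact Algebra.IsAlgebraic.trans (Algebra.adjoin k {t}) k⟮t⟯ K

theorem trdeg_le_one (hK : FunFld.IsFunctionField k K) : Algebra.trdeg k K ≤ 1 := by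
  obtain ⟨⟨t, ht, hfin⟩, -⟩ := hK
  have := isAlgebraic_adjoin_of_finiteDimensional hfin
  have h := Algebra.IsAlgebraic.trdeg_le_cardinalMk k ({t} : Set K)
  rwa [Cardinal.mk_singleton] at h

theorem isAlgebraic_of_transcendental (hK : FunFld.IsFunctionField k K) {x : K}
    (hx : Transcendental k x) : Algebra.IsAlgebraic k⟮x⟯ K := by
  have hind : AlgebraicIndependent k (fun _ : Unit => x) :=
    algebraicIndependent_unique_type_iff.mpr hx
  have hb : IsTranscendenceBasis k (fun _ : Unit => x) :=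
    hind.isTranscendenceBasis_of_lift_trdeg_le_of_finite (by
      rw [Cardinal.mk_fintype, Fintype.card_unit, Nat.cast_one, Cardinal.lift_one]
      exact (Cardinal.lift_le.mpr (trdeg_le_one hK)).trans_eq (Cardinal.lift_one))
  have := hb.isAlgebraic_field
  rwa [Set.range_const] at this

theorem finiteDimensional_of_transcendental (hK : FunFld.IsFunctionField k K) {x : K}
    (hx : Transcendental k x) : FiniteDimensional k⟮x⟯ K := by
  have halg := isAlgebraic_of_transcendental hK hx
  obtain ⟨⟨t, ht, hfin⟩, -⟩ := hK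
  let B := Module.Free.chooseBasis k⟮t⟯ K
  let S : Set K := insert t (Set.range fun i => (B i : K))
  have hS : S.Finite := (Set.finite_range _).insert t
  have htop : adjoin k⟮x⟯ S = ⊤ := by
    rw [eq_top_iff]
    intro y _
    have h1 : t ∈ (adjoin k⟮x⟯ S).restrictScalars k := by
      rw [IntermediateField.mem_restrictScalars]
      exact subset_adjoin _ _ (Set.mem_insert _ _)
    have h2 : k⟮t⟯ ≤ (adjoin k⟮x⟯ S).restrictScalars k := (adjoin_simple_le_iff).mpr h1
    have hE : ∀ c : k⟮t⟯, (c : K) ∈ adjoin k⟮x⟯ S := by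
      intro c
      have := h2 c.2
      rwa [IntermediateField.mem_restrictScalars] at this
    rw [← B.sum_repr y]
    refine IntermediateField.sum_mem _ fun i _ => ?_
    rw [Algebra.smul_def]
    exact IntermediateField.mul_mem _ (hE _)
      (subset_adjoin _ _ (Set.mem_insert_of_mem _ ⟨i, rfl⟩))
  haveI : Finite S := hS.to_subtype
  have : FiniteDimensional k⟮x⟯ (adjoin k⟮x⟯ S) :=
    finiteDimensional_adjoin fun y _ => (halg.isAlgebraic y).isIntegral
  rw [htop] at this
  exact (IntermediateField.topEquiv (F := k⟮x⟯) (E := K)).toLinearEquiv.finiteDimensional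

section Valuation

variable {Γ₀ : Type*} [LinearOrderedCommGroupWithZero Γ₀]

lemma val_aeval_le_one (v : Valuation K Γ₀) (hk : ∀ c : k, v (algebraMap k K c) ≤ 1) {x : K}
    (hx : v x ≤ 1) (p : k[X]) : v (aeval x p) ≤ 1 := by
  induction p using Polynomial.induction_on with
  | C a => simpa using hk a
  | add p q hp hq => rw [map_add]; exact (v.map_add _ _).trans (max_le hp hq)
  | monomial n a ih =>
    rw [pow_succ, ← mul_assoc, map_mul, aeval_X, v.map_mul]; exact mul_le_one' ih hx

lemma val_aeval_sub_coeff_zero_lt (v : Valuation K Γ₀) (hk : ∀ c : k, v (algebraMap k K c) ≤ 1)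
    {x : K} (hx : v x < 1) (p : k[X]) : v (aeval x p - algebraMap k K (p.coeff 0)) < 1 := by
  obtain ⟨q, hq⟩ : X ∣ p - C (p.coeff 0) := by rw [X_dvd_iff]; simp
  have h : aeval x p - algebraMap k K (p.coeff 0) = x * aeval x q := by
    have := congrArg (aeval x) hq
    simpa [map_sub, aeval_C] using this
  rw [h, v.map_mul]
  calc v x * v (aeval x q) ≤ v x * 1 := by gcongr; exact val_aeval_le_one v hk hx.le q
    _ = v x := mul_one _
    _ < 1 := hx

/-- From a nontrivial `k[x]`-relation among `z i`, extract polynomials `q i`, one of which has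
nonzero constant term, with `∑ q i (x) z i = 0`. -/
lemma exists_relation_coeff_zero_ne {x : K} (hx0 : x ≠ 0) {ι : Type*} [Fintype ι] (z : ι → K)
    (p : ι → k[X]) (hrel : ∑ i, aeval x (p i) * z i = 0) (hne : ∃ i, p i ≠ 0) :
    ∃ q : ι → k[X], (∑ i, aeval x (q i) * z i = 0) ∧ (∃ i, (q i).coeff 0 ≠ 0) := by
  classical
  let S := Finset.univ.filter (fun i => p i ≠ 0)
  have hS : S.Nonempty := by obtain ⟨i, hi⟩ := hne; exact ⟨i, by simp [S, hi]⟩
  let m := S.inf' hS (fun i => (p i).natTrailingDegree)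
  obtain ⟨i₀, hi₀S, hi₀⟩ := S.exists_mem_eq_inf' hS (fun i => (p i).natTrailingDegree)
  have hdvd : ∀ i, X ^ m ∣ p i := by
    intro i
    by_cases hpi : p i = 0
    · rw [hpi]; exact dvd_zero _
    · have hm : m ≤ (p i).natTrailingDegree := S.inf'_le _ (by simp [S, hpi])
      rw [X_pow_dvd_iff]
      intro d hd
      exact coeff_eq_zero_of_lt_natTrailingDegree (lt_of_lt_of_le hd hm)
  choose q hq using hdvd
  refine ⟨q, ?_, ⟨i₀, ?_⟩⟩
  · have h2 : x ^ m * ∑ i, aeval x (q i) * z i = 0 := by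
      rw [Finset.mul_sum, ← hrel]
      refine Finset.sum_congr rfl fun i _ => ?_
      rw [hq i, map_mul, map_pow, aeval_X, mul_assoc]
    exact (mul_eq_zero.mp h2).resolve_left (pow_ne_zero _ hx0)
  · have hp0 : p i₀ ≠ 0 := by simpa [S] using hi₀S
    have h3 : (p i₀).coeff (0 + m) = (q i₀).coeff 0 := by rw [hq i₀, coeff_X_pow_mul]
    rw [← h3, zero_add]
    have : (p i₀).coeff (p i₀).natTrailingDegree ≠ 0 := by
      change (p i₀).trailingCoeff ≠ 0
      exact mt trailingCoeff_eq_zero.mp hp0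
    have hm' : m = (p i₀).natTrailingDegree := hi₀
    rw [hm']; exact this

open IntermediateField.algebraAdjoinAdjoin in
lemma linearIndependent_of_poly {x : K} {ι : Type*} [Fintype ι] (z : ι → K)
    (H : ∀ p : ι → k[X], ∑ i, aeval x (p i) * z i = 0 → ∀ i, p i = 0) :
    LinearIndependent k⟮x⟯ z := by
  rw [← LinearIndependent.iff_fractionRing (Algebra.adjoin k {x}) k⟮x⟯]
  rw [Fintype.linearIndependent_iff]
  intro g hg
  have : ∀ i, ∃ p : k[X], aeval x p = (g i : K) := fun i => by
    have h := (Algebra.adjoin_singleton_eq_range_aeval k x).le (g i).2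
    obtain ⟨p, hp⟩ := h
    exact ⟨p, hp⟩
  choose p hp using this
  have hrel : ∑ i, aeval x (p i) * z i = 0 := by
    rw [← hg]
    refine Finset.sum_congr rfl fun i _ => ?_
    rw [hp i]; rfl
  intro i
  have := H p hrel i
  apply Subtype.ext
  rw [← hp i, this, map_zero]; rfl

lemma val_aeval_le_of_coeff_zero (v : Valuation K Γ₀) (hk : ∀ c : k, v (algebraMap k K c) ≤ 1)
    {x : K} (hx : v x ≤ 1) (p : k[X]) (hp : p.coeff 0 = 0) : v (aeval x p) ≤ v x := by
  obtain ⟨q, hq⟩ : X ∣ p := by rw [X_dvd_iff]; exact hp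
  rw [hq, map_mul, aeval_X, v.map_mul]
  calc v x * v (aeval x q) ≤ v x * 1 := by gcongr; exact val_aeval_le_one v hk hx q
    _ = v x := mul_one _

lemma val_algebraMap_eq_one (v : Valuation K Γ₀) (hk : ∀ c : k, v (algebraMap k K c) ≤ 1)
    {c : k} (hc : c ≠ 0) : v (algebraMap k K c) = 1 := by
  refine le_antisymm (hk c) ?_
  have h1 : v (algebraMap k K c) * v (algebraMap k K c⁻¹) = 1 := by
    rw [← v.map_mul, ← map_mul, mul_inv_cancel₀ hc, map_one, v.map_one]
  by_contra hlt
  push Not at hlt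
  have : v (algebraMap k K c) * v (algebraMap k K c⁻¹) < 1 :=
    calc _ ≤ v (algebraMap k K c) * 1 := by gcongr; exact hk _
      _ < 1 := by rw [mul_one]; exact hlt
  exact this.ne h1

lemma val_aeval_eq_one (v : Valuation K Γ₀) (hk : ∀ c : k, v (algebraMap k K c) ≤ 1)
    {x : K} (hx : v x < 1) (p : k[X]) (hp : p.coeff 0 ≠ 0) : v (aeval x p) = 1 := by
  have h1 := val_aeval_sub_coeff_zero_lt v hk hx p
  have h2 := val_algebraMap_eq_one v hk hp
  have : aeval x p = (aeval x p - algebraMap k K (p.coeff 0)) + algebraMap k K (p.coeff 0) := by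
    ring
  rw [this, v.map_add_eq_of_lt_right (by rw [h2]; exact h1), h2]

/-- Residues linearly independent over `k` lift to elements linearly independent over `k(x)`,
for `x` in the maximal ideal. -/
theorem linearIndependent_of_residue (v : Valuation K Γ₀) (hk : ∀ c : k, v (algebraMap k K c) ≤ 1)
    {x : K} (hx0 : x ≠ 0) (hx : v x < 1) {ι : Type*} [Fintype ι] (z : ι → K)
    (hz : ∀ i, v (z i) ≤ 1)
    (hres : ∀ c : ι → k, v (∑ i, algebraMap k K (c i) * z i) < 1 → ∀ i, c i = 0) :
    LinearIndependent k⟮x⟯ z := by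
  refine linearIndependent_of_poly z fun p hrel => ?_
  by_contra hne
  push Not at hne
  obtain ⟨q, hq, i₀, hi₀⟩ := exists_relation_coeff_zero_ne hx0 z p hrel hne
  apply hi₀
  refine hres (fun i => (q i).coeff 0) ?_ i₀
  have : ∑ i, algebraMap k K ((q i).coeff 0) * z i =
      - ∑ i, (aeval x (q i) - algebraMap k K ((q i).coeff 0)) * z i := by
    rw [eq_neg_iff_add_eq_zero, ← Finset.sum_add_distrib, ← hq]
    exact Finset.sum_congr rfl fun i _ => by ring
  rw [this, Valuation.map_neg]
  refine v.map_sum_lt one_ne_zero fun i _ => ?_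
  rw [v.map_mul]
  calc _ ≤ v (aeval x (q i) - algebraMap k K ((q i).coeff 0)) * 1 := by gcongr; exact hz i
    _ < 1 := by rw [mul_one]; exact val_aeval_sub_coeff_zero_lt v hk hx (q i)

/-- A chain `0 < v (y 0) < v (y 1) < ... < v (y n) < 1` is linearly independent over `k(y 0)`. -/
theorem linearIndependent_of_chain (v : Valuation K Γ₀) (hk : ∀ c : k, v (algebraMap k K c) ≤ 1)
    {n : ℕ} (y : Fin (n + 1) → K) (h0 : y 0 ≠ 0) (hmono : StrictMono (fun i => v (y i)))
    (hlt : v (y (Fin.last n)) < 1) : LinearIndependent k⟮y 0⟯ y := by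
  classical
  have hlt' : ∀ i, v (y i) < 1 := fun i => lt_of_le_of_lt (hmono.monotone (Fin.le_last i)) hlt
  refine linearIndependent_of_poly y fun p hrel => ?_
  by_contra hne
  push Not at hne
  obtain ⟨q, hq, i₀, hi₀⟩ := exists_relation_coeff_zero_ne h0 y p hrel hne
  let S := Finset.univ.filter (fun i => (q i).coeff 0 ≠ 0)
  have hS : S.Nonempty := ⟨i₀, by simp [S, hi₀]⟩
  let j := S.max' hS
  have hjS : j ∈ S := S.max'_mem hS
  have hj : (q j).coeff 0 ≠ 0 := by simpa [S] using hjS
  have hjmax : ∀ i, j < i → (q i).coeff 0 = 0 := by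
    intro i hi
    by_contra h
    exact absurd (S.le_max' i (by simp [S, h])) (not_le.mpr hi)
  have hv0 : v (y 0) ≠ 0 := (Valuation.ne_zero_iff v).mpr h0
  have hTj : v (aeval (y 0) (q j) * y j) = v (y j) := by
    rw [v.map_mul, val_aeval_eq_one v hk (hlt' 0) _ hj, one_mul]
  have hother : ∀ i ∈ Finset.univ.erase j, v (aeval (y 0) (q i) * y i) < v (y j) := by
    intro i hi
    have hij : i ≠ j := Finset.ne_of_mem_erase hi
    rw [v.map_mul]
    rcases lt_or_gt_of_ne hij with h | h
    · calc v (aeval (y 0) (q i)) * v (y i) ≤ 1 * v (y i) := by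
            gcongr; exact val_aeval_le_one v hk (hlt' 0).le _
        _ = v (y i) := one_mul _
        _ < v (y j) := hmono h
    · calc v (aeval (y 0) (q i)) * v (y i) ≤ v (y 0) * v (y i) := by
            gcongr; exact val_aeval_le_of_coeff_zero v hk (hlt' 0).le _ (hjmax i h)
        _ < v (y 0) * 1 := by
            exact mul_lt_mul_of_pos_left (hlt' i) (zero_lt_iff.mpr hv0)
        _ = v (y 0) := mul_one _
        _ ≤ v (y j) := hmono.monotone (Fin.zero_le j)
  have hsplit := Finset.add_sum_erase Finset.univ (fun i => aeval (y 0) (q i) * y i)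
    (Finset.mem_univ j)
  rw [hq] at hsplit
  have hvj : v (y j) ≠ 0 := by
    intro h; have := hmono.monotone (Fin.zero_le j); rw [h] at this
    exact hv0 (le_antisymm this zero_le)
  have hsum : v (∑ i ∈ Finset.univ.erase j, aeval (y 0) (q i) * y i) < v (y j) :=
    v.map_sum_lt hvj hother
  have : aeval (y 0) (q j) * y j = - ∑ i ∈ Finset.univ.erase j, aeval (y 0) (q i) * y i := by
    rw [eq_neg_iff_add_eq_zero]; exact hsplit
  have := congrArg v this
  rw [Valuation.map_neg, hTj] at this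
  exact (ne_of_gt hsum) this

end Valuation

section Place

lemma place_exists_uniformizer (P : FunFld.Place k K) : ∃ x : K, P.1 x = WithZero.exp (-1) :=
  P.2.2 _

lemma place_val_lt_one_transcendental (hK : FunFld.IsFunctionField k K) (P : FunFld.Place k K)
    {x : K} (hx0 : x ≠ 0) (hx : P.1 x < 1) : Transcendental k x := by
  intro halg
  obtain ⟨c, rfl⟩ := hK.2 x halg
  have hc : c ≠ 0 := by rintro rfl; simp at hx0
  have := val_algebraMap_eq_one P.1 P.2.1 hc
  exact (ne_of_lt hx) this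

lemma place_mem_maximalIdeal_of_lt_one (P : FunFld.Place k K) (w : P.O) (hw : P.1 (w : K) < 1) :
    w ∈ IsLocalRing.maximalIdeal P.O := by
  rw [IsLocalRing.mem_maximalIdeal, mem_nonunits_iff]
  intro hu
  obtain ⟨u, rfl⟩ := hu
  have h1 : P.1 ((u⁻¹ : P.Oˣ) : P.O) ≤ 1 := ((u⁻¹ : P.Oˣ) : P.O).2
  have h2 : P.1 (u : K) * P.1 ((u⁻¹ : P.Oˣ) : P.O) = 1 := by
    rw [← P.1.map_mul]
    have : ((u : P.O) : K) * (((u⁻¹ : P.Oˣ) : P.O) : K) = 1 := by
      rw [← Subring.coe_mul, Units.mul_inv]; rfl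
    rw [this, P.1.map_one]
  have : P.1 (u : K) * P.1 ((u⁻¹ : P.Oˣ) : P.O) < 1 :=
    calc _ ≤ P.1 (u : K) * 1 := by gcongr
      _ < 1 := by rw [mul_one]; exact hw
  exact (ne_of_lt this) h2

theorem rank_residueField_le (hK : FunFld.IsFunctionField k K) (P : FunFld.Place k K) {x : K}
    (hx0 : x ≠ 0) (hx : P.1 x < 1) :
    Module.rank k (IsLocalRing.ResidueField P.O) ≤
      (Module.finrank k⟮x⟯ K : Cardinal) := by
  have htr := place_val_lt_one_transcendental hK P hx0 hx
  have := finiteDimensional_of_transcendental hK htr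
  apply rank_le
  intro s hs
  let z : s → P.O := fun i => (IsLocalRing.residue_surjective (i : IsLocalRing.ResidueField P.O)).choose
  have hz : ∀ i, IsLocalRing.residue P.O (z i) = (i : IsLocalRing.ResidueField P.O) := fun i =>
    (IsLocalRing.residue_surjective (i : IsLocalRing.ResidueField P.O)).choose_spec
  have hli : LinearIndependent k⟮x⟯ (fun i => ((z i : P.O) : K)) := by
    refine linearIndependent_of_residue P.1 P.2.1 hx0 hx _ (fun i => (z i).2) ?_
    intro c hc
    let w : P.O := ∑ i, algebraMap k P.O (c i) * z i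
    have hwK : (w : K) = ∑ i, algebraMap k K (c i) * (z i : K) := by
      simp only [w, AddSubmonoidClass.coe_finsetSum]
      rfl
    have hw : w ∈ IsLocalRing.maximalIdeal P.O :=
      place_mem_maximalIdeal_of_lt_one P w (by rw [hwK]; exact hc)
    have hres : IsLocalRing.residue P.O w = 0 := (IsLocalRing.residue_eq_zero_iff w).mpr hw
    have hsum : ∑ i, c i • (i : IsLocalRing.ResidueField P.O) = 0 := by
      rw [← hres]
      simp only [w, map_sum, map_mul, hz]
      refine Finset.sum_congr rfl fun i _ => ?_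
      rw [Algebra.smul_def]; rfl
    exact Fintype.linearIndependent_iff.mp hs c hsum
  have := hli.fintype_card_le_finrank
  simpa using this

theorem finiteDimensional_residueField (hK : FunFld.IsFunctionField k K) (P : FunFld.Place k K) :
    FiniteDimensional k (IsLocalRing.ResidueField P.O) := by
  obtain ⟨x, hx⟩ := place_exists_uniformizer P
  have hx0 : x ≠ 0 := by
    rintro rfl; rw [Valuation.map_zero] at hx; exact WithZero.exp_ne_zero hx.symm
  have hxlt : P.1 x < 1 := by rw [hx, ← WithZero.exp_zero, WithZero.exp_lt_exp]; norm_num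
  have h := rank_residueField_le hK P hx0 hxlt
  exact Module.rank_lt_aleph0_iff.mp (lt_of_le_of_lt h Cardinal.natCast_lt_aleph0)

end Place

section Existence

lemma transcendental_of_val_lt_one (hK : FunFld.IsFunctionField k K)
    {Γ₀ : Type*} [LinearOrderedCommGroupWithZero Γ₀] (v : Valuation K Γ₀)
    (hk : ∀ c : k, v (algebraMap k K c) ≤ 1) {x : K} (hx0 : x ≠ 0) (hx : v x < 1) :
    Transcendental k x := by
  intro halg
  obtain ⟨c, rfl⟩ := hK.2 x halg
  have hc : c ≠ 0 := by rintro rfl; simp at hx0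
  exact (ne_of_lt hx) (val_algebraMap_eq_one v hk hc)

theorem wfDvdMonoid_of_valuationSubring (hK : FunFld.IsFunctionField k K)
    (O : ValuationSubring K) (hk : ∀ c : k, algebraMap k K c ∈ O) : WfDvdMonoid O := by
  refine ⟨?_⟩
  rw [wellFounded_iff_isEmpty_descending_chain]
  refine ⟨fun ⟨f, hf⟩ => ?_⟩
  have hk' : ∀ c : k, O.valuation (algebraMap k K c) ≤ 1 := fun c =>
    (O.valuation_le_one_iff _).mpr (hk c)
  have hne : ∀ n, ((f (n + 1) : O) : K) ≠ 0 := fun n h =>
    (hf n).1 (Subtype.ext h)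
  have hlt : ∀ n, O.valuation (f n : K) < O.valuation (f (n + 1) : K) := by
    intro n
    obtain ⟨-, c, hc, hfc⟩ := hf n
    have hc1 : O.valuation (c : K) < 1 := (O.valuation_lt_one_iff c).mp
      ((IsLocalRing.mem_maximalIdeal _).mpr hc)
    rw [hfc, Subring.coe_mul, O.valuation.map_mul]
    have h0 : O.valuation (f (n + 1) : K) ≠ 0 := (Valuation.ne_zero_iff _).mpr (hne n)
    calc O.valuation (f (n + 1) : K) * O.valuation (c : K) < O.valuation (f (n + 1) : K) * 1 :=
          mul_lt_mul_of_pos_left hc1 (zero_lt_iff.mpr h0)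
      _ = _ := mul_one _
  have hx0 : ((f 1 : O) : K) ≠ 0 := hne 0
  have hxlt : O.valuation (f 1 : K) < 1 := lt_of_lt_of_le (hlt 1) (O.valuation_le_one (f 2))
  have htr := transcendental_of_val_lt_one hK O.valuation hk' hx0 hxlt
  have := finiteDimensional_of_transcendental hK htr
  let N := Module.finrank k⟮((f 1 : O) : K)⟯ K
  let y : Fin (N + 1) → K := fun i => (f (i.val + 1) : K)
  have hmono : StrictMono (fun i => O.valuation (y i)) := by
    refine Fin.strictMono_iff_lt_succ.mpr fun i => ?_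
    simp only [y, Fin.val_succ, Fin.val_castSucc]
    exact hlt _
  have hlast : O.valuation (y (Fin.last N)) < 1 := by
    simp only [y, Fin.val_last]
    exact lt_of_lt_of_le (hlt _) (O.valuation_le_one _)
  have hli := linearIndependent_of_chain O.valuation hk' y (by simpa [y] using hx0) hmono hlast
  have hy0 : y 0 = ((f 1 : O) : K) := by simp [y]
  rw [hy0] at hli
  have := hli.fintype_card_le_finrank
  simp [N] at this


theorem isDiscreteValuationRing_of_valuationSubring (hK : FunFld.IsFunctionField k K)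
    (O : ValuationSubring K) (hk : ∀ c : k, algebraMap k K c ∈ O) {x : K} (hx0 : x ≠ 0)
    (hx : x ∈ O.nonunits) : IsDiscreteValuationRing O := by
  have hwf := wfDvdMonoid_of_valuationSubring hK O hk
  have : IsNoetherianRing O := ((IsBezout.TFAE (R := O)).out 0 3).mpr hwf
  have hxO : x ∈ O := O.nonunits_le hx
  have hm : (⟨x, hxO⟩ : O) ∈ IsLocalRing.maximalIdeal O := O.coe_mem_nonunits_iff.mp hx
  have hnf : ¬ IsField O := by
    intro hf
    have := (IsLocalRing.isField_iff_maximalIdeal_eq.mp hf)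
    rw [this, Ideal.mem_bot] at hm
    exact hx0 (congrArg Subtype.val hm)
  exact ((IsDiscreteValuationRing.TFAE O hnf).out 0 1).mpr (inferInstance : ValuationRing O)

/-- The maximal ideal of a DVR valuation subring, as a height one prime. -/
noncomputable def maxSpec (O : ValuationSubring K) [IsDiscreteValuationRing O] :
    IsDedekindDomain.HeightOneSpectrum O :=
  ⟨IsLocalRing.maximalIdeal O, inferInstance, IsDiscreteValuationRing.not_a_field O⟩

/-- The place attached to a DVR valuation subring containing `k`. -/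
noncomputable def placeOf (O : ValuationSubring K) [IsDiscreteValuationRing O]
    (hk : ∀ c : k, algebraMap k K c ∈ O) : FunFld.Place k K :=
  ⟨(maxSpec O).valuation K, fun c => by
      have := (maxSpec O).valuation_le_one (K := K) ⟨algebraMap k K c, hk c⟩
      exact this,
    (maxSpec O).valuation_surjective K⟩

lemma placeOf_val_le_one_iff (O : ValuationSubring K) [IsDiscreteValuationRing O]
    (hk : ∀ c : k, algebraMap k K c ∈ O) (y : K) : (placeOf O hk).1 y ≤ 1 ↔ y ∈ O := by
  constructor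
  · intro h
    by_contra hy
    have hy0 : y ≠ 0 := by rintro rfl; exact hy O.zero_mem
    have hinv : y⁻¹ ∈ O := (O.mem_or_inv_mem y).resolve_left hy
    have hm : (⟨y⁻¹, hinv⟩ : O) ∈ IsLocalRing.maximalIdeal O := by
      rw [← O.coe_mem_nonunits_iff, O.mem_nonunits_iff_or]
      right; simpa using hy
    have hlt : (placeOf O hk).1 y⁻¹ < 1 :=
      ((maxSpec O).valuation_lt_one_iff_mem (K := K) ⟨y⁻¹, hinv⟩).mpr hm
    have h1 : (placeOf O hk).1 y * (placeOf O hk).1 y⁻¹ = 1 := by
      rw [← Valuation.map_mul, mul_inv_cancel₀ hy0, Valuation.map_one]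
    have : (placeOf O hk).1 y * (placeOf O hk).1 y⁻¹ < 1 :=
      calc _ ≤ 1 * (placeOf O hk).1 y⁻¹ := by gcongr
        _ < 1 := by rw [one_mul]; exact hlt
    exact (ne_of_lt this) h1
  · intro h
    exact (maxSpec O).valuation_le_one (K := K) ⟨y, h⟩

lemma placeOf_val_lt_one_of_mem (O : ValuationSubring K) [IsDiscreteValuationRing O]
    (hk : ∀ c : k, algebraMap k K c ∈ O) {y : K} (hy : y ∈ O.nonunits) :
    (placeOf O hk).1 y < 1 := by
  have hyO : y ∈ O := O.nonunits_le hy
  exact ((maxSpec O).valuation_lt_one_iff_mem (K := K) ⟨y, hyO⟩).mpr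
    (O.coe_mem_nonunits_iff.mp hy)

/-- Every transcendental element has a zero. -/
theorem exists_place_val_lt_one (hK : FunFld.IsFunctionField k K) {x : K}
    (hx : Transcendental k x) : ∃ P : FunFld.Place k K, P.1 x < 1 := by
  let A : Subring K := (Algebra.adjoin k {x}).toSubring
  let xA : A := ⟨x, Algebra.self_mem_adjoin_singleton k x⟩
  have hI : Ideal.span {xA} ≠ ⊤ := by
    intro h
    rw [Ideal.span_singleton_eq_top] at h
    obtain ⟨u, hu⟩ := h
    have hinv : ((u⁻¹ : Aˣ) : A).1 ∈ Algebra.adjoin k {x} := ((u⁻¹ : Aˣ) : A).2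
    obtain ⟨p, hp⟩ := (Algebra.adjoin_singleton_eq_range_aeval k x).le hinv
    apply hx
    refine ⟨X * p - 1, ?_, ?_⟩
    · intro h0
      have := congrArg (Polynomial.coeff · 0) h0
      simp at this
    · have h1 : (x : K) * ((u⁻¹ : Aˣ) : A).1 = 1 := by
        have : ((u : A) : K) * ((u⁻¹ : Aˣ) : A) = 1 := by
          rw [← Subring.coe_mul, Units.mul_inv]; rfl
        rwa [hu] at this
      simp only [map_sub, map_mul, aeval_X, map_one]
      have hp' : aeval x p = ((u⁻¹ : Aˣ) : A).1 := hp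
      rw [hp', h1, sub_self]
  obtain ⟨B, hAB, hIB⟩ := Ideal.image_subset_nonunits_valuationSubring _ hI
  have hk : ∀ c : k, algebraMap k K c ∈ B := fun c =>
    hAB (show algebraMap k K c ∈ A from Subalgebra.algebraMap_mem _ c)
  have hxB : x ∈ B.nonunits := hIB ⟨xA, Ideal.subset_span rfl, rfl⟩
  have hx0 : x ≠ 0 := fun h => hx (h ▸ isAlgebraic_zero)
  have := isDiscreteValuationRing_of_valuationSubring hK B hk hx0 hxB
  exact ⟨placeOf B hk, placeOf_val_lt_one_of_mem B hk hxB⟩

end Existence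

section Consequences

lemma val_mul_inv_eq_one {Γ₀ : Type*} [LinearOrderedCommGroupWithZero Γ₀] (v : Valuation K Γ₀)
    {y : K} (hy : y ≠ 0) : v y * v y⁻¹ = 1 := by
  rw [← Valuation.map_mul, mul_inv_cancel₀ hy, Valuation.map_one]

/-- Every transcendental element has a pole. -/
theorem exists_place_one_lt_val (hK : FunFld.IsFunctionField k K) {x : K}
    (hx : Transcendental k x) : ∃ P : FunFld.Place k K, 1 < P.1 x := by
  have hx0 : x ≠ 0 := fun h => hx (h ▸ isAlgebraic_zero)
  have htr : Transcendental k x⁻¹ := fun h => hx (IsAlgebraic.inv_iff.mp h)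
  obtain ⟨P, hP⟩ := exists_place_val_lt_one hK htr
  refine ⟨P, ?_⟩
  by_contra hle
  push Not at hle
  have h1 := val_mul_inv_eq_one P.1 hx0
  have : P.1 x * P.1 x⁻¹ < 1 :=
    calc _ ≤ 1 * P.1 x⁻¹ := by gcongr
      _ < 1 := by rw [one_mul]; exact hP
  exact (ne_of_lt this) h1

theorem mem_range_of_forall_val_le_one (hK : FunFld.IsFunctionField k K) {y : K}
    (hy : ∀ P : FunFld.Place k K, P.1 y ≤ 1) : y ∈ Set.range (algebraMap k K) := by
  by_contra hny
  have htr : Transcendental k y := fun halg => hny (hK.2 y halg)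
  obtain ⟨P, hP⟩ := exists_place_one_lt_val hK htr
  exact absurd (hy P) (not_le.mpr hP)

theorem L_zero (hK : FunFld.IsFunctionField k K) : FunFld.L (0 : FunFld.Divisor k K) = 1 := by
  apply le_antisymm
  · intro y hy
    rw [Submodule.mem_one]
    have : ∀ P : FunFld.Place k K, P.1 y ≤ 1 := fun P => by
      have := hy P
      simpa using this
    obtain ⟨c, hc⟩ := mem_range_of_forall_val_le_one hK this
    exact ⟨c, hc⟩
  · intro y hy
    rw [Submodule.mem_one] at hy
    obtain ⟨c, rfl⟩ := hy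
    intro P
    simpa using P.2.1 c


lemma ord_def (P : FunFld.Place k K) (x : K) : P.ord x = -WithZero.log (P.1 x) := rfl

lemma log_neg_of_lt_one {a : WithZero (Multiplicative ℤ)} (ha0 : a ≠ 0) (ha : a < 1) :
    WithZero.log a < 0 := by
  rw [← WithZero.exp_log ha0, ← WithZero.exp_zero, WithZero.exp_lt_exp] at ha
  exact ha

lemma log_pos_of_one_lt {a : WithZero (Multiplicative ℤ)} (ha0 : a ≠ 0) (ha : 1 < a) :
    0 < WithZero.log a := by
  rw [← WithZero.exp_log ha0, ← WithZero.exp_zero, WithZero.exp_lt_exp] at ha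
  exact ha

theorem exists_zero_and_exists_pole (hK : FunFld.IsFunctionField k K) {x : K}
    (hx : x ∉ Set.range (algebraMap k K)) :
    (∃ P : FunFld.Place k K, 0 < P.ord x) ∧ ∃ Q : FunFld.Place k K, Q.ord x < 0 := by
  have htr : Transcendental k x := fun halg => hx (hK.2 x halg)
  have hx0 : x ≠ 0 := fun h => htr (h ▸ isAlgebraic_zero)
  obtain ⟨P, hP⟩ := exists_place_val_lt_one hK htr
  obtain ⟨Q, hQ⟩ := exists_place_one_lt_val hK htr
  refine ⟨⟨P, ?_⟩, ⟨Q, ?_⟩⟩
  · rw [ord_def]
    have := log_neg_of_lt_one ((Valuation.ne_zero_iff P.1).mpr hx0) hP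
    omega
  · rw [ord_def]
    have := log_pos_of_one_lt ((Valuation.ne_zero_iff Q.1).mpr hx0) hQ
    omega

theorem exists_eq_smul_of_ord_eq (hK : FunFld.IsFunctionField k K) {x y : K} (hx : x ≠ 0)
    (hy : y ≠ 0) (h : ∀ P : FunFld.Place k K, P.ord x = P.ord y) : ∃ c : k, x = c • y := by
  have hv : ∀ P : FunFld.Place k K, P.1 x = P.1 y := by
    intro P
    have h1 := h P
    rw [ord_def, ord_def] at h1
    have h2 : WithZero.log (P.1 x) = WithZero.log (P.1 y) := by omega
    rw [← WithZero.exp_log ((Valuation.ne_zero_iff P.1).mpr hx),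
      ← WithZero.exp_log ((Valuation.ne_zero_iff P.1).mpr hy), h2]
  have hz : ∀ P : FunFld.Place k K, P.1 (x / y) ≤ 1 := by
    intro P
    rw [Valuation.map_div, hv P, div_self ((Valuation.ne_zero_iff P.1).mpr hy)]
  obtain ⟨c, hc⟩ := mem_range_of_forall_val_le_one hK hz
  refine ⟨c, ?_⟩
  rw [Algebra.smul_def, hc, div_mul_cancel₀ x hy]

end Consequences

section RiemannRochSpaces

theorem L_mono {D₁ D₂ : FunFld.Divisor k K} (h : D₁ ≤ D₂) : FunFld.L D₁ ≤ FunFld.L D₂ :=
  fun _ hy P => (hy P).trans (WithZero.exp_le_exp.mpr (h P))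

lemma lt_exp_add_one_iff {a : WithZero (Multiplicative ℤ)} {m : ℤ} :
    a < WithZero.exp (m + 1) ↔ a ≤ WithZero.exp m := by
  by_cases ha : a = 0
  · subst ha
    exact ⟨fun _ => zero_le, fun _ => zero_lt_iff.mpr WithZero.exp_ne_zero⟩
  · rw [← WithZero.exp_log ha, WithZero.exp_lt_exp, WithZero.exp_le_exp]
    omega

lemma place_val_lt_one_of_mem_maximalIdeal (P : FunFld.Place k K) (w : P.O)
    (hw : w ∈ IsLocalRing.maximalIdeal P.O) : P.1 (w : K) < 1 := by
  by_contra hle
  push Not at hle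
  have h1 : P.1 (w : K) = 1 := le_antisymm w.2 hle
  apply hw
  have hw0 : (w : K) ≠ 0 := by
    intro h; rw [h, Valuation.map_zero] at h1; exact zero_ne_one h1
  have hinv : (w : K)⁻¹ ∈ P.O := by
    change P.1 (w : K)⁻¹ ≤ 1
    rw [Valuation.map_inv, h1, inv_one]
  refine isUnit_iff_exists_inv.mpr ⟨⟨(w : K)⁻¹, hinv⟩, ?_⟩
  exact Subtype.ext (by simp [hw0])

/-- One step: `ℓ(D + P) ≤ ℓ(D) + deg P`, with finite-dimensionality. -/
theorem L_step (hK : FunFld.IsFunctionField k K) (D : FunFld.Divisor k K) (P : FunFld.Place k K)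
    [FiniteDimensional k (FunFld.L D)] :
    FiniteDimensional k (FunFld.L (D + Finsupp.single P 1)) ∧
      FunFld.ell (D + Finsupp.single P 1) ≤ FunFld.ell D + P.deg := by
  classical
  obtain ⟨t, ht⟩ := place_exists_uniformizer P
  set D' := D + Finsupp.single P 1 with hD'
  set n : ℤ := D P + 1 with hn
  have hD'P : D' P = n := by simp [D', n]
  have hD'Q : ∀ Q, Q ≠ P → D' Q = D Q := fun Q hQ => by
    simp [D', Ne.symm hQ]
  have hvt : P.1 (t ^ n) = WithZero.exp (-n) := by
    rw [map_zpow₀, ht, ← WithZero.exp_zsmul]; simp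
  have hmem : ∀ z : FunFld.L D', t ^ n * (z : K) ∈ P.O := by
    intro z
    change P.1 (t ^ n * (z : K)) ≤ 1
    rw [Valuation.map_mul, hvt]
    have hz : P.1 (z : K) ≤ WithZero.exp n := by rw [← hD'P]; exact z.2 P
    calc WithZero.exp (-n) * P.1 (z : K) ≤ WithZero.exp (-n) * WithZero.exp n := by gcongr
      _ = 1 := by rw [← WithZero.exp_add]; simp
  let φ : FunFld.L D' →ₗ[k] IsLocalRing.ResidueField P.O :=
    { toFun := fun z => IsLocalRing.residue P.O ⟨t ^ n * (z : K), hmem z⟩
      map_add' := fun z₁ z₂ => by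
        rw [← map_add]; congr 1; apply Subtype.ext
        simp [mul_add]
      map_smul' := fun c z => by
        rw [RingHom.id_apply]
        change _ = IsLocalRing.residue P.O (c • (⟨t ^ n * (z : K), hmem z⟩ : P.O))
        congr 1; apply Subtype.ext
        change t ^ n * ((c • (z : K))) = (algebraMap k K c) * (t ^ n * (z : K))
        rw [Algebra.smul_def]; ring }
  have hker : ∀ z : FunFld.L D', φ z = 0 ↔ (z : K) ∈ FunFld.L D := by
    intro z
    change IsLocalRing.residue P.O _ = 0 ↔ _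
    rw [IsLocalRing.residue_eq_zero_iff]
    constructor
    · intro hm Q
      by_cases hQ : Q = P
      · subst hQ
        have := place_val_lt_one_of_mem_maximalIdeal Q _ hm
        change Q.1 (t ^ n * (z : K)) < 1 at this
        rw [Valuation.map_mul, hvt] at this
        have h2 : Q.1 (z : K) < WithZero.exp (D Q + 1) := by
          have := mul_lt_mul_of_pos_left this (zero_lt_iff.mpr (WithZero.exp_ne_zero (a := n)))
          rwa [← mul_assoc, ← WithZero.exp_add, add_neg_cancel, WithZero.exp_zero, one_mul,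
            mul_one] at this
        exact lt_exp_add_one_iff.mp h2
      · have := z.2 Q
        rwa [hD'Q Q hQ] at this
    · intro hz
      apply place_mem_maximalIdeal_of_lt_one
      change P.1 (t ^ n * (z : K)) < 1
      rw [Valuation.map_mul, hvt]
      have h2 : P.1 (z : K) < WithZero.exp n := lt_exp_add_one_iff.mpr (hz P)
      calc WithZero.exp (-n) * P.1 (z : K) < WithZero.exp (-n) * WithZero.exp n :=
            mul_lt_mul_of_pos_left h2 (zero_lt_iff.mpr WithZero.exp_ne_zero)
        _ = 1 := by rw [← WithZero.exp_add]; simp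
  have hle : FunFld.L D ≤ FunFld.L D' := L_mono (by simp [D'])
  have hkerEq : LinearMap.ker φ = (FunFld.L D).comap (FunFld.L D').subtype := by
    ext z; simp [hker]
  have hres := finiteDimensional_residueField hK P
  have hrank := LinearMap.rank_range_add_rank_ker φ
  rw [hkerEq, (Submodule.comapSubtypeEquivOfLe hle).rank_eq] at hrank
  have h1 : Module.rank k (LinearMap.range φ) ≤ P.deg := by
    rw [FunFld.Place.deg, Module.finrank_eq_rank]
    exact Submodule.rank_le _
  have h2 : Module.rank k (FunFld.L D) = FunFld.ell D := (Module.finrank_eq_rank _ _).symm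
  have hbound : Module.rank k (FunFld.L D') ≤ (P.deg + FunFld.ell D : ℕ) := by
    rw [← hrank, h2, Nat.cast_add]
    gcongr
  have hfd : FiniteDimensional k (FunFld.L D') :=
    Module.rank_lt_aleph0_iff.mp (lt_of_le_of_lt hbound (Cardinal.natCast_lt_aleph0))
  refine ⟨hfd, ?_⟩
  have : (FunFld.ell D' : Cardinal) ≤ (P.deg + FunFld.ell D : ℕ) := by
    rw [FunFld.ell, Module.finrank_eq_rank]; exact hbound
  have h3 : FunFld.ell D' ≤ P.deg + FunFld.ell D := by exact_mod_cast this
  omega


lemma deg_add (D₁ D₂ : FunFld.Divisor k K) : (D₁ + D₂).deg = D₁.deg + D₂.deg := by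
  unfold FunFld.Divisor.deg
  exact Finsupp.sum_add_index' (fun _ => by simp) (fun _ _ _ => by ring)

lemma deg_single (P : FunFld.Place k K) (n : ℤ) :
    FunFld.Divisor.deg (Finsupp.single P n : FunFld.Divisor k K) = n * P.deg := by
  unfold FunFld.Divisor.deg
  exact Finsupp.sum_single_index (by simp)

lemma deg_sub (D₁ D₂ : FunFld.Divisor k K) : (D₁ - D₂).deg = D₁.deg - D₂.deg := by
  have := deg_add (D₁ - D₂) D₂
  rw [sub_add_cancel] at this
  omega

theorem L_step_nat (hK : FunFld.IsFunctionField k K) (P : FunFld.Place k K) (n : ℕ) :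
    ∀ (D : FunFld.Divisor k K) [FiniteDimensional k (FunFld.L D)],
    FiniteDimensional k (FunFld.L (D + Finsupp.single P (n : ℤ))) ∧
      FunFld.ell (D + Finsupp.single P (n : ℤ)) ≤ FunFld.ell D + n * P.deg := by
  induction n with
  | zero =>
    intro D _
    rw [Nat.cast_zero, Finsupp.single_zero, add_zero]
    exact ⟨inferInstance, by simp⟩
  | succ n ih =>
    intro D _
    obtain ⟨h1, h2⟩ := ih D
    have e : D + Finsupp.single P ((n + 1 : ℕ) : ℤ) = (D + Finsupp.single P (n : ℤ)) + Finsupp.single P 1 := by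
      rw [add_assoc, ← Finsupp.single_add]; push_cast; rfl
    obtain ⟨h3, h4⟩ := L_step hK (D + Finsupp.single P (n : ℤ)) P
    rw [e]
    refine ⟨h3, ?_⟩
    have : (n + 1) * P.deg = n * P.deg + P.deg := by ring
    omega

theorem L_add_nonneg (hK : FunFld.IsFunctionField k K) (E : FunFld.Divisor k K) (hE : 0 ≤ E) :
    ∀ (D : FunFld.Divisor k K) [FiniteDimensional k (FunFld.L D)],
    FiniteDimensional k (FunFld.L (D + E)) ∧
      (FunFld.ell (D + E) : ℤ) ≤ FunFld.ell D + E.deg := by
  classical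
  induction E using Finsupp.induction with
  | zero =>
    intro D _
    rw [add_zero]
    refine ⟨inferInstance, ?_⟩
    simp [FunFld.Divisor.deg]
  | single_add a b f ha hb ih =>
    intro D _
    have hfa : f a = 0 := Finsupp.notMem_support_iff.mp ha
    have hb0 : 0 ≤ b := by
      have := hE a
      simpa [hfa] using this
    have hf0 : 0 ≤ f := by
      intro Q
      by_cases hQ : Q = a
      · subst hQ; simp [hfa]
      · have := hE Q
        simpa [Finsupp.single_apply, Ne.symm hQ] using this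
    obtain ⟨h1, h2⟩ := ih hf0 D
    obtain ⟨h3, h4⟩ := L_step_nat hK a b.toNat (D + f)
    have hbn : ((b.toNat : ℕ) : ℤ) = b := Int.toNat_of_nonneg hb0
    have h4' : (FunFld.ell (D + f + Finsupp.single a ((b.toNat : ℕ) : ℤ)) : ℤ) ≤
        FunFld.ell (D + f) + (b.toNat : ℤ) * a.deg := by exact_mod_cast h4
    rw [hbn] at h3 h4'
    have e : D + (Finsupp.single a b + f) = (D + f) + Finsupp.single a b := by abel
    rw [e]
    refine ⟨h3, ?_⟩
    rw [deg_add, deg_single]
    linarith

theorem finiteDimensional_L (hK : FunFld.IsFunctionField k K) (D : FunFld.Divisor k K) :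
    FiniteDimensional k (FunFld.L D) := by
  have h0 : FiniteDimensional k (FunFld.L (0 : FunFld.Divisor k K)) := by
    rw [L_zero hK, Submodule.one_eq_range]
    exact LinearMap.finiteDimensional_range _
  let Dp : FunFld.Divisor k K := D.mapRange (fun n => max n 0) (by simp)
  have hDp : 0 ≤ Dp := fun Q => by simp [Dp]
  have hle : D ≤ 0 + Dp := fun Q => by simp [Dp]
  obtain ⟨h1, -⟩ := L_add_nonneg hK Dp hDp 0
  exact Submodule.finiteDimensional_of_le (L_mono hle)

theorem ell_sub_ell_le (hK : FunFld.IsFunctionField k K) {D₁ D₂ : FunFld.Divisor k K}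
    (h : D₁ ≤ D₂) : (FunFld.ell D₂ : ℤ) - FunFld.ell D₁ ≤ D₂.deg - D₁.deg := by
  have := finiteDimensional_L hK D₁
  have hE : 0 ≤ D₂ - D₁ := sub_nonneg.mpr h
  obtain ⟨-, h2⟩ := L_add_nonneg hK (D₂ - D₁) hE D₁
  rw [add_sub_cancel, deg_sub] at h2
  linarith

end RiemannRochSpaces

section Approximation

lemma val_eq_one_of_le_of_inv_le {Γ₀ : Type*} [LinearOrderedCommGroupWithZero Γ₀]
    (v : Valuation K Γ₀) {y : K} (hy0 : y ≠ 0) (h1 : v y ≤ 1) (h2 : v y⁻¹ ≤ 1) : v y = 1 := by
  refine le_antisymm h1 ?_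
  by_contra hlt
  push Not at hlt
  have := val_mul_inv_eq_one v hy0
  have : v y * v y⁻¹ < 1 :=
    calc _ ≤ v y * 1 := by gcongr
      _ < 1 := by rw [mul_one]; exact hlt
  exact (ne_of_lt this) (val_mul_inv_eq_one v hy0)

lemma place_uniformizer_ne_zero (P : FunFld.Place k K) {t : K} (ht : P.1 t = WithZero.exp (-1)) :
    t ≠ 0 := by
  rintro rfl; rw [Valuation.map_zero] at ht; exact WithZero.exp_ne_zero ht.symm

/-- Two places whose valuation rings are nested are equal. -/
theorem place_eq_of_le (P Q : FunFld.Place k K) (h : ∀ y : K, P.1 y ≤ 1 → Q.1 y ≤ 1) :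
    P = Q := by
  obtain ⟨t, ht⟩ := place_exists_uniformizer P
  have ht0 := place_uniformizer_ne_zero P ht
  have hkey : ∀ z : K, z ≠ 0 → Q.1 z = (Q.1 t) ^ (-(WithZero.log (P.1 z))) := by
    intro z hz
    set m := WithZero.log (P.1 z)
    have hPz : P.1 z = WithZero.exp m :=
      (WithZero.exp_log ((Valuation.ne_zero_iff _).mpr hz)).symm
    set w := z * t ^ m with hw
    have hw0 : w ≠ 0 := mul_ne_zero hz (zpow_ne_zero _ ht0)
    have hPw : P.1 w = 1 := by
      rw [hw, Valuation.map_mul, map_zpow₀, ht, hPz, ← WithZero.exp_zsmul, ← WithZero.exp_add]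
      simp
    have hQw : Q.1 w = 1 := by
      refine val_eq_one_of_le_of_inv_le Q.1 hw0 (h w hPw.le) (h _ ?_)
      rw [Valuation.map_inv, hPw, inv_one]
    have hz' : z = w * (t ^ m)⁻¹ := by
      rw [hw, mul_assoc, mul_inv_cancel₀ (zpow_ne_zero _ ht0), mul_one]
    rw [hz', Valuation.map_mul, hQw, one_mul, Valuation.map_inv, map_zpow₀, ← zpow_neg]
  have hQt1 : Q.1 t ≤ 1 := h t (by rw [ht]; exact le_of_lt (by
    rw [← WithZero.exp_zero, WithZero.exp_lt_exp]; norm_num))
  have hQt0 : Q.1 t ≠ 0 := (Valuation.ne_zero_iff _).mpr ht0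
  obtain ⟨z₀, hz₀⟩ := Q.2.2 (WithZero.exp (-1))
  have hz₀0 : z₀ ≠ 0 := by
    rintro rfl; rw [Valuation.map_zero] at hz₀; exact WithZero.exp_ne_zero hz₀.symm
  have hq : Q.1 t = WithZero.exp (WithZero.log (Q.1 t)) := (WithZero.exp_log hQt0).symm
  have hs : WithZero.log (Q.1 t) ≤ 0 := by
    have : WithZero.exp (WithZero.log (Q.1 t)) ≤ WithZero.exp 0 := by
      rw [WithZero.exp_zero, ← hq]; exact hQt1
    exact WithZero.exp_le_exp.mp this
  have heq := hkey z₀ hz₀0
  rw [hz₀, hq, ← WithZero.exp_zsmul] at heq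
  have heq' := congrArg WithZero.log heq
  simp only [WithZero.log_exp, smul_eq_mul] at heq'
  have hs1 : WithZero.log (Q.1 t) = -1 := by
    have h1 : (-(WithZero.log (P.1 z₀))) * WithZero.log (Q.1 t) = -1 := heq'.symm
    rcases Int.eq_one_or_neg_one_of_mul_eq_neg_one' h1 with ⟨_, h2⟩ | ⟨_, h2⟩
    · exact h2
    · omega
  have hQt : Q.1 t = WithZero.exp (-1) := by rw [hq, hs1]
  apply Subtype.ext
  ext z
  by_cases hz : z = 0
  · subst hz; simp
  · rw [hkey z hz, hQt, ← WithZero.exp_zsmul]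
    simp only [smul_eq_mul, mul_neg, mul_one, neg_neg]
    exact (WithZero.exp_log ((Valuation.ne_zero_iff P.1).mpr hz)).symm


theorem exists_lt_one_one_lt {P Q : FunFld.Place k K} (hPQ : P ≠ Q) :
    ∃ u : K, P.1 u < 1 ∧ 1 < Q.1 u := by
  have h1 : ∃ y, P.1 y ≤ 1 ∧ 1 < Q.1 y := by
    by_contra hc; push Not at hc
    exact hPQ (place_eq_of_le P Q hc)
  have h2 : ∃ y, Q.1 y ≤ 1 ∧ 1 < P.1 y := by
    by_contra hc; push Not at hc
    exact hPQ (place_eq_of_le Q P hc).symm
  obtain ⟨y₁, hy₁P, hy₁Q⟩ := h1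
  obtain ⟨y₂, hy₂Q, hy₂P⟩ := h2
  have hP2 : 0 < P.1 y₂ := lt_trans zero_lt_one hy₂P
  have hy₂0 : y₂ ≠ 0 := by
    rintro rfl; rw [Valuation.map_zero] at hP2; exact lt_irrefl _ hP2
  have hQ2 : 0 < Q.1 y₂ := zero_lt_iff.mpr ((Valuation.ne_zero_iff _).mpr hy₂0)
  refine ⟨y₁ / y₂, ?_, ?_⟩
  · rw [Valuation.map_div]
    exact (div_lt_one₀ hP2).mpr (lt_of_le_of_lt hy₁P hy₂P)
  · rw [Valuation.map_div]
    exact (one_lt_div₀ hQ2).mpr (lt_of_le_of_lt hy₂Q hy₁Q)

/-- Strong approximation-type element: small at `P`, large at every place of `S`. -/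
theorem exists_lt_one_forall_one_lt (P : FunFld.Place k K) (S : Finset (FunFld.Place k K))
    (hPS : P ∉ S) : ∃ u : K, P.1 u < 1 ∧ ∀ Q ∈ S, 1 < Q.1 u := by
  classical
  induction S using Finset.induction_on with
  | empty => exact ⟨0, by simp, by simp⟩
  | insert Q S hQS ih =>
    have hPQ : P ≠ Q := fun h => hPS (h ▸ Finset.mem_insert_self _ _)
    have hPS' : P ∉ S := fun h => hPS (Finset.mem_insert_of_mem h)
    obtain ⟨u, hu1, hu2⟩ := ih hPS'
    obtain ⟨w, hw1, hw2⟩ := exists_lt_one_one_lt hPQ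
    by_cases hQu : 1 < Q.1 u
    · refine ⟨u, hu1, fun Q' hQ' => ?_⟩
      rcases Finset.mem_insert.mp hQ' with rfl | h
      · exact hQu
      · exact hu2 Q' h
    · push Not at hQu
      -- choose r large
      let r : ℕ := (∑ Q' ∈ S, (WithZero.log (Q'.1 u)).toNat) + 1
      have hr : ∀ Q' ∈ S, WithZero.log (Q'.1 u) < r := by
        intro Q' hQ'
        have h1 : (WithZero.log (Q'.1 u)).toNat ≤ ∑ Q'' ∈ S, (WithZero.log (Q''.1 u)).toNat :=
          Finset.single_le_sum (f := fun Q'' => (WithZero.log (Q''.1 u)).toNat)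
            (fun _ _ => Nat.zero_le _) hQ'
        have h2 := Int.self_le_toNat (WithZero.log (Q'.1 u))
        have h3 : (((WithZero.log (Q'.1 u)).toNat : ℕ) : ℤ) ≤
            ((∑ Q'' ∈ S, (WithZero.log (Q''.1 u)).toNat : ℕ) : ℤ) := by exact_mod_cast h1
        simp only [r]
        rw [Nat.cast_add, Nat.cast_one]
        omega
      refine ⟨u + w ^ r, ?_, fun Q' hQ' => ?_⟩
      · refine P.1.map_add_lt hu1 ?_
        rw [map_pow]
        exact pow_lt_one₀ zero_le hw1 (by omega)
      · rcases Finset.mem_insert.mp hQ' with rfl | hQ'S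
        · have hwr : 1 < Q'.1 (w ^ r) := by rw [map_pow]; exact one_lt_pow₀ hw2 (by omega)
          rw [Q'.1.map_add_eq_of_lt_right (lt_of_le_of_lt hQu hwr)]
          exact hwr
        · have hu' := hu2 Q' hQ'S
          by_cases hw' : 1 < Q'.1 w
          · -- Q'(w^r) > Q'(u)
            have hu0 : Q'.1 u ≠ 0 := ne_of_gt (lt_trans zero_lt_one hu')
            have hw0 : Q'.1 w ≠ 0 := ne_of_gt (lt_trans zero_lt_one hw')
            have hlogw : 1 ≤ WithZero.log (Q'.1 w) := by
              have : WithZero.exp 0 < WithZero.exp (WithZero.log (Q'.1 w)) := by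
                rw [WithZero.exp_log hw0, WithZero.exp_zero]; exact hw'
              have := WithZero.exp_lt_exp.mp this
              omega
            have hlt : Q'.1 u < Q'.1 (w ^ r) := by
              rw [map_pow, ← WithZero.exp_log hu0, ← WithZero.exp_log hw0, ← WithZero.exp_nsmul,
                WithZero.exp_lt_exp, nsmul_eq_mul]
              have := hr Q' hQ'S
              nlinarith
            rw [Q'.1.map_add_eq_of_lt_right hlt]
            exact lt_trans hu' hlt
          · push Not at hw'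
            have hlt : Q'.1 (w ^ r) < Q'.1 u := by
              rw [map_pow]
              exact lt_of_le_of_lt (pow_le_one₀ zero_le hw') hu'
            rw [Q'.1.map_add_eq_of_lt_left hlt]
            exact hu'

/-- Approximation: `y ≡ 1` at `P` and `y ≡ 0` at every place of `S`. -/
theorem exists_approx (P : FunFld.Place k K) (S : Finset (FunFld.Place k K)) (hPS : P ∉ S) :
    ∃ y : K, P.1 (y - 1) < 1 ∧ ∀ Q ∈ S, Q.1 y < 1 := by
  obtain ⟨u, hu1, hu2⟩ := exists_lt_one_forall_one_lt P S hPS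
  have hP1u : P.1 (1 + u) = 1 := by
    rw [P.1.map_add_eq_of_lt_left (by rw [Valuation.map_one]; exact hu1), Valuation.map_one]
  have h1u : (1 + u) ≠ 0 := by
    intro h; rw [h, Valuation.map_zero] at hP1u; exact zero_ne_one hP1u
  refine ⟨(1 + u)⁻¹, ?_, fun Q hQ => ?_⟩
  · have : (1 + u)⁻¹ - 1 = -u * (1 + u)⁻¹ := by field_simp; ring
    rw [this, Valuation.map_mul, Valuation.map_neg, Valuation.map_inv, hP1u, inv_one, mul_one]
    exact hu1
  · have hQ1u : Q.1 (1 + u) = Q.1 u := by
      rw [Q.1.map_add_eq_of_lt_right (by rw [Valuation.map_one]; exact hu2 Q hQ)]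
    rw [Valuation.map_inv, hQ1u]
    exact inv_lt_one_of_one_lt₀ (hu2 Q hQ)


/-- The zeros of a transcendental `x` are at most `[K : k(x)]` in number. -/
theorem card_zeros_le (hK : FunFld.IsFunctionField k K) {x : K} (hx : Transcendental k x)
    (S : Finset (FunFld.Place k K)) (hS : ∀ P ∈ S, P.1 x < 1) :
    S.card ≤ Module.finrank k⟮x⟯ K := by
  classical
  have hx0 : x ≠ 0 := fun h => hx (h ▸ isAlgebraic_zero)
  have := finiteDimensional_of_transcendental hK hx
  have hy : ∀ P : S, ∃ y : K, (P : FunFld.Place k K).1 (y - 1) < 1 ∧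
      ∀ Q ∈ S.erase (P : FunFld.Place k K), Q.1 y < 1 :=
    fun P => exists_approx P.1 (S.erase P.1) (Finset.notMem_erase _ _)
  choose y hy1 hy2 using hy
  have hli : LinearIndependent k⟮x⟯ y := by
    refine linearIndependent_of_poly y fun p hrel => ?_
    by_contra hne; push Not at hne
    obtain ⟨q, hq, P₀, hP₀⟩ := exists_relation_coeff_zero_ne hx0 y p hrel hne
    let v := (P₀ : FunFld.Place k K).1
    have hxv : v x < 1 := hS P₀.1 P₀.2
    have hk : ∀ c : k, v (algebraMap k K c) ≤ 1 := (P₀ : FunFld.Place k K).2.1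
    have hT0 : v (aeval x (q P₀) * y P₀) = 1 := by
      rw [v.map_mul, val_aeval_eq_one v hk hxv _ hP₀]
      have : y P₀ = (y P₀ - 1) + 1 := by ring
      rw [this, v.map_add_eq_of_lt_right (by rw [v.map_one]; exact hy1 P₀), v.map_one, one_mul]
    have hother : ∀ P ∈ Finset.univ.erase P₀, v (aeval x (q P) * y P) < 1 := by
      intro P hP
      have hne : P ≠ P₀ := Finset.ne_of_mem_erase hP
      rw [v.map_mul]
      have h1 : v (y P) < 1 := hy2 P P₀.1
        (Finset.mem_erase.mpr ⟨fun h => hne (Subtype.ext h).symm, P₀.2⟩)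
      calc v (aeval x (q P)) * v (y P) ≤ 1 * v (y P) := by
            gcongr; exact val_aeval_le_one v hk hxv.le _
        _ < 1 := by rw [one_mul]; exact h1
    have hsplit := Finset.add_sum_erase Finset.univ (fun P => aeval x (q P) * y P)
      (Finset.mem_univ P₀)
    rw [hq] at hsplit
    have hsum : v (∑ P ∈ Finset.univ.erase P₀, aeval x (q P) * y P) < 1 :=
      v.map_sum_lt one_ne_zero hother
    have : aeval x (q P₀) * y P₀ = -∑ P ∈ Finset.univ.erase P₀, aeval x (q P) * y P := by
      rw [eq_neg_iff_add_eq_zero]; exact hsplit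
    have := congrArg v this
    rw [Valuation.map_neg, hT0] at this
    exact (ne_of_gt hsum) this
  have := hli.fintype_card_le_finrank
  simpa using this

theorem finite_zeros (hK : FunFld.IsFunctionField k K) {x : K} (hx : Transcendental k x) :
    {P : FunFld.Place k K | P.1 x < 1}.Finite := by
  by_contra hinf
  obtain ⟨S, hS, hcard⟩ := Set.Infinite.exists_subset_card_eq hinf (Module.finrank k⟮x⟯ K + 1)
  have := card_zeros_le hK hx S (fun P hP => hS hP)
  omega

theorem finite_support_ord (hK : FunFld.IsFunctionField k K) (x : K) :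
    (Function.support fun P : FunFld.Place k K => P.ord x).Finite := by
  by_cases hx0 : x = 0
  · subst hx0
    convert Set.finite_empty
    ext P; simp [ord_def]
  by_cases halg : IsAlgebraic k x
  · obtain ⟨c, rfl⟩ := hK.2 x halg
    have hc : c ≠ 0 := by rintro rfl; simp at hx0
    convert Set.finite_empty
    ext P; simp [ord_def, val_algebraMap_eq_one P.1 P.2.1 hc]
  · have htr : Transcendental k x := halg
    have htr' : Transcendental k x⁻¹ := fun h => htr (IsAlgebraic.inv_iff.mp h)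
    refine ((finite_zeros hK htr).union (finite_zeros hK htr')).subset ?_
    intro P hP
    simp only [Function.mem_support, ord_def] at hP
    rcases lt_trichotomy (P.1 x) 1 with h | h | h
    · left; exact h
    · exfalso; apply hP; rw [h]; simp
    · right
      show P.1 x⁻¹ < 1
      rw [Valuation.map_inv]; exact inv_lt_one_of_one_lt₀ h

theorem div_apply (hK : FunFld.IsFunctionField k K) (x : K) (P : FunFld.Place k K) :
    FunFld.div k x P = P.ord x := by
  unfold FunFld.div
  rw [dif_pos (finite_support_ord hK x)]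
  rfl

theorem mem_L_iff {D : FunFld.Divisor k K} {y : K} :
    y ∈ FunFld.L D ↔ ∀ P : FunFld.Place k K, P.1 y ≤ WithZero.exp (D P) := Iff.rfl

theorem mul_mem_L_iff (hK : FunFld.IsFunctionField k K) (D : FunFld.Divisor k K) (x y : K)
    (hx : x ≠ 0) : x * y ∈ FunFld.L D ↔ y ∈ FunFld.L (D + FunFld.div k x) := by
  rw [mem_L_iff, mem_L_iff]
  refine forall_congr' fun P => ?_
  have hx' : P.1 x ≠ 0 := (Valuation.ne_zero_iff P.1).mpr hx
  rw [Finsupp.add_apply, div_apply hK, ord_def, Valuation.map_mul, WithZero.exp_add,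
    WithZero.exp_neg, WithZero.exp_log hx', ← div_eq_mul_inv, le_div_iff₀ (zero_lt_iff.mpr hx'),
    mul_comm]

theorem L_ne_bot_iff (hK : FunFld.IsFunctionField k K) (D : FunFld.Divisor k K) :
    FunFld.L D ≠ ⊥ ↔ ∃ x : K, x ≠ 0 ∧ 0 ≤ D + FunFld.div k x := by
  have key : ∀ x : K, x ≠ 0 → (x ∈ FunFld.L D ↔ 0 ≤ D + FunFld.div k x) := by
    intro x hx
    rw [mem_L_iff]
    refine forall_congr' fun P => ?_
    have hx' : P.1 x ≠ 0 := (Valuation.ne_zero_iff P.1).mpr hx
    rw [Finsupp.coe_zero, Pi.zero_apply, Finsupp.add_apply, div_apply hK, ord_def,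
      ← WithZero.exp_log hx', WithZero.exp_le_exp, WithZero.log_exp]
    omega
  constructor
  · intro h
    obtain ⟨x, hx, hx0⟩ := (Submodule.ne_bot_iff _).mp h
    exact ⟨x, hx0, (key x hx0).mp hx⟩
  · rintro ⟨x, hx0, hx⟩
    exact (Submodule.ne_bot_iff _).mpr ⟨x, (key x hx0).mpr hx, hx0⟩

end Approximation

section Degree

lemma le_exp_neg_one_of_lt_one {a : WithZero (Multiplicative ℤ)} (h : a < 1) :
    a ≤ WithZero.exp (-1) := by
  have : a < WithZero.exp (-1 + 1) := by simpa using h
  exact lt_exp_add_one_iff.mp this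

lemma exp_one_le_of_one_lt {a : WithZero (Multiplicative ℤ)} (h : 1 < a) :
    WithZero.exp 1 ≤ a := by
  have ha0 : a ≠ 0 := ne_of_gt (lt_trans zero_lt_one h)
  rw [← WithZero.exp_log ha0] at h ⊢
  rw [WithZero.exp_le_exp]
  have : WithZero.exp 0 < WithZero.exp (WithZero.log a) := by rwa [WithZero.exp_zero]
  have := WithZero.exp_lt_exp.mp this
  omega

/-- Step 1 of the approximation theorem with prescribed order `r`. -/
theorem exists_approx_order (P : FunFld.Place k K) (S : Finset (FunFld.Place k K)) (hPS : P ∉ S)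
    (r : ℤ) : ∃ y : K, P.1 (y - 1) ≤ WithZero.exp (-r) ∧ ∀ Q ∈ S, Q.1 y ≤ WithZero.exp (-r) := by
  obtain ⟨u, hu1, hu2⟩ := exists_lt_one_forall_one_lt P S hPS
  set s : ℕ := r.toNat + 1 with hs
  have hsr : r ≤ (s : ℤ) := by have := Int.self_le_toNat r; simp only [hs]; push_cast; omega
  have hPus : P.1 (u ^ s) ≤ WithZero.exp (-r) := by
    rw [map_pow]
    calc P.1 u ^ s ≤ (WithZero.exp (-1)) ^ s := pow_le_pow_left₀ zero_le (le_exp_neg_one_of_lt_one hu1) s
      _ = WithZero.exp (-(s : ℤ)) := by rw [← WithZero.exp_nsmul]; simp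
      _ ≤ WithZero.exp (-r) := WithZero.exp_le_exp.mpr (by omega)
  have hPus1 : P.1 (u ^ s) < 1 := by
    rw [map_pow]; exact pow_lt_one₀ zero_le hu1 (by omega)
  have hP1 : P.1 (1 + u ^ s) = 1 := by
    rw [P.1.map_add_eq_of_lt_left (by rw [Valuation.map_one]; exact hPus1), Valuation.map_one]
  have h1u : (1 + u ^ s) ≠ 0 := by
    intro h; rw [h, Valuation.map_zero] at hP1; exact zero_ne_one hP1
  refine ⟨(1 + u ^ s)⁻¹, ?_, fun Q hQ => ?_⟩
  · have : (1 + u ^ s)⁻¹ - 1 = -u ^ s * (1 + u ^ s)⁻¹ := by field_simp; ring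
    rw [this, Valuation.map_mul, Valuation.map_neg, Valuation.map_inv, hP1, inv_one, mul_one]
    exact hPus
  · have hQu := hu2 Q hQ
    have hQus : WithZero.exp (s : ℤ) ≤ Q.1 (u ^ s) := by
      rw [map_pow]
      calc WithZero.exp (s : ℤ) = (WithZero.exp 1) ^ s := by rw [← WithZero.exp_nsmul]; simp
        _ ≤ Q.1 u ^ s := pow_le_pow_left₀ zero_le (exp_one_le_of_one_lt hQu) s
    have hQus1 : 1 < Q.1 (u ^ s) := by
      rw [map_pow]; exact one_lt_pow₀ hQu (by omega)
    have hQ1 : Q.1 (1 + u ^ s) = Q.1 (u ^ s) := by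
      rw [Q.1.map_add_eq_of_lt_right (by rw [Valuation.map_one]; exact hQus1)]
    rw [Valuation.map_inv, hQ1]
    calc (Q.1 (u ^ s))⁻¹ ≤ (WithZero.exp (s : ℤ))⁻¹ := inv_anti₀ (zero_lt_iff.mpr WithZero.exp_ne_zero) hQus
      _ = WithZero.exp (-(s : ℤ)) := by rw [WithZero.exp_neg]
      _ ≤ WithZero.exp (-r) := WithZero.exp_le_exp.mpr (by omega)


/-- The approximation theorem (inequality version). -/
theorem approximation (S : Finset (FunFld.Place k K)) (a : FunFld.Place k K → K)
    (r : FunFld.Place k K → ℤ) :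
    ∃ z : K, ∀ P ∈ S, P.1 (z - a P) ≤ WithZero.exp (-r P) := by
  classical
  let R : ℤ := ∑ Q ∈ S, |r Q| + ∑ P ∈ S, ∑ Q ∈ S, |WithZero.log (Q.1 (a P))|
  have hR : ∀ P ∈ S, ∀ Q ∈ S, r Q + WithZero.log (Q.1 (a P)) ≤ R := by
    intro P hP Q hQ
    have h1 : |r Q| ≤ ∑ Q ∈ S, |r Q| :=
      Finset.single_le_sum (f := fun Q => |r Q|) (fun _ _ => abs_nonneg _) hQ
    have h2 : |WithZero.log (Q.1 (a P))| ≤ ∑ Q ∈ S, |WithZero.log (Q.1 (a P))| :=
      Finset.single_le_sum (f := fun Q => |WithZero.log (Q.1 (a P))|) (fun _ _ => abs_nonneg _) hQ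
    have h3 : ∑ Q ∈ S, |WithZero.log (Q.1 (a P))| ≤
        ∑ P ∈ S, ∑ Q ∈ S, |WithZero.log (Q.1 (a P))| :=
      Finset.single_le_sum (f := fun P => ∑ Q ∈ S, |WithZero.log (Q.1 (a P))|)
        (fun _ _ => Finset.sum_nonneg fun _ _ => abs_nonneg _) hP
    have h4 := le_abs_self (r Q)
    have h5 := le_abs_self (WithZero.log (Q.1 (a P)))
    simp only [R]
    linarith
  have hy : ∀ P ∈ S, ∃ y : K, P.1 (y - 1) ≤ WithZero.exp (-R) ∧
      ∀ Q ∈ S.erase P, Q.1 y ≤ WithZero.exp (-R) :=
    fun P _ => exists_approx_order P (S.erase P) (Finset.notMem_erase _ _) R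
  choose! y hy1 hy2 using hy
  refine ⟨∑ P ∈ S, a P * y P, fun Q hQ => ?_⟩
  have e : ∑ P ∈ S, a P * y P - a Q = a Q * (y Q - 1) + ∑ P ∈ S.erase Q, a P * y P := by
    rw [← Finset.add_sum_erase S _ hQ]; ring
  rw [e]
  have key : ∀ P ∈ S, ∀ w : K, Q.1 w ≤ WithZero.exp (-R) →
      Q.1 (a P * w) ≤ WithZero.exp (-r Q) := by
    intro P hP w hw
    rw [Valuation.map_mul]
    by_cases ha : a P = 0
    · rw [ha, Valuation.map_zero, zero_mul]; exact zero_le
    · have ha' : Q.1 (a P) ≠ 0 := (Valuation.ne_zero_iff Q.1).mpr ha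
      calc Q.1 (a P) * Q.1 w ≤ Q.1 (a P) * WithZero.exp (-R) := by gcongr
        _ = WithZero.exp (WithZero.log (Q.1 (a P)) + -R) := by
          rw [WithZero.exp_add, WithZero.exp_log ha']
        _ ≤ WithZero.exp (-r Q) := WithZero.exp_le_exp.mpr (by linarith [hR P hP Q hQ])
  refine Q.1.map_add_le (key Q hQ _ (hy1 Q hQ)) (Q.1.map_sum_le fun P hP => ?_)
  exact key P (Finset.mem_of_mem_erase hP) _ (hy2 P (Finset.mem_of_mem_erase hP) Q
    (Finset.mem_erase.mpr ⟨(Finset.ne_of_mem_erase hP).symm, hQ⟩))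


/-- Linear independence over `k(x)` via a leading-term criterion. -/
theorem linearIndependent_of_leading {x : K} (hx0 : x ≠ 0) {ι : Type*} [Fintype ι] (b : ι → K)
    (H : ∀ c : ι → k, (∃ i, c i ≠ 0) → ∃ P : FunFld.Place k K, P.1 x ≤ 1 ∧
      ∀ i, P.1 (x * b i) < P.1 (∑ j, algebraMap k K (c j) * b j)) :
    LinearIndependent k⟮x⟯ b := by
  refine linearIndependent_of_poly b fun p hrel => ?_
  by_contra hne; push Not at hne
  obtain ⟨q, hq, i₀, hi₀⟩ := exists_relation_coeff_zero_ne hx0 b p hrel hne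
  obtain ⟨P, hPx, hP⟩ := H (fun i => (q i).coeff 0) ⟨i₀, hi₀⟩
  set M := ∑ j, algebraMap k K ((q j).coeff 0) * b j with hM
  have e : ∑ i, aeval x (q i) * b i =
      M + ∑ i, (aeval x (q i) - algebraMap k K ((q i).coeff 0)) * b i := by
    rw [hM, ← Finset.sum_add_distrib]
    exact Finset.sum_congr rfl fun i _ => by ring
  have herr : ∀ i, P.1 ((aeval x (q i) - algebraMap k K ((q i).coeff 0)) * b i) < P.1 M := by
    intro i
    obtain ⟨r, hr⟩ : X ∣ q i - C ((q i).coeff 0) := by rw [X_dvd_iff]; simp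
    have h1 : aeval x (q i) - algebraMap k K ((q i).coeff 0) = x * aeval x r := by
      have := congrArg (aeval x) hr
      simpa [map_sub, aeval_C] using this
    rw [h1, mul_comm x, mul_assoc, Valuation.map_mul]
    calc P.1 (aeval x r) * P.1 (x * b i) ≤ 1 * P.1 (x * b i) := by
          gcongr; exact val_aeval_le_one P.1 P.2.1 hPx r
      _ < P.1 M := by rw [one_mul]; exact hP i
  have hM0 : P.1 M ≠ 0 := ne_of_gt (lt_of_le_of_lt zero_le (hP i₀))
  have hsum : P.1 (∑ i, (aeval x (q i) - algebraMap k K ((q i).coeff 0)) * b i) < P.1 M :=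
    P.1.map_sum_lt hM0 (fun i _ => herr i)
  rw [hq] at e
  have h2 : M = -∑ i, (aeval x (q i) - algebraMap k K ((q i).coeff 0)) * b i := by
    rw [eq_neg_iff_add_eq_zero]; exact e.symm
  have h3 := congrArg P.1 h2
  rw [Valuation.map_neg] at h3
  exact (ne_of_gt hsum) h3

/-- Combining families that are good at distinct places. -/
theorem linearIndependent_sigma {x : K} (hx0 : x ≠ 0) (S : Finset (FunFld.Place k K))
    (hS : ∀ P ∈ S, P.1 x ≤ 1) (ι : S → Type*) [∀ P, Fintype (ι P)] (b : ∀ P, ι P → K)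
    (E : S → ℤ)
    (hgood : ∀ P : S, ∀ c : ι P → k, (∃ i, c i ≠ 0) → ∃ m < E P,
      (P : FunFld.Place k K).1 (∑ i, algebraMap k K (c i) * b P i) = WithZero.exp (-m) ∧
      ∀ i, (P : FunFld.Place k K).1 (x * b P i) < WithZero.exp (-m))
    (hcross : ∀ P Q : S, P ≠ Q → ∀ j, (P : FunFld.Place k K).1 (b Q j) ≤ WithZero.exp (-E P)) :
    LinearIndependent k⟮x⟯ (fun i : (Σ P, ι P) => b i.1 i.2) := by
  classical
  refine linearIndependent_of_leading hx0 _ fun c hc => ?_
  obtain ⟨⟨P, i₀⟩, hi₀⟩ := hc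
  obtain ⟨m, hmE, hPm, hPx⟩ := hgood P (fun i => c ⟨P, i⟩) ⟨i₀, hi₀⟩
  have hPx1 : (P : FunFld.Place k K).1 x ≤ 1 := hS P.1 P.2
  set v := (P : FunFld.Place k K).1 with hv
  have hlt : WithZero.exp (-E P) < WithZero.exp (-m) := WithZero.exp_lt_exp.mpr (by omega)
  have hsplit : ∑ j : (Σ P, ι P), algebraMap k K (c j) * b j.1 j.2 =
      ∑ i, algebraMap k K (c ⟨P, i⟩) * b P i +
        ∑ Q ∈ Finset.univ.erase P, ∑ j, algebraMap k K (c ⟨Q, j⟩) * b Q j := by
    rw [Fintype.sum_sigma, ← Finset.add_sum_erase _ _ (Finset.mem_univ P)]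
  have hrest : v (∑ Q ∈ Finset.univ.erase P, ∑ j, algebraMap k K (c ⟨Q, j⟩) * b Q j) <
      WithZero.exp (-m) := by
    refine lt_of_le_of_lt ?_ hlt
    refine v.map_sum_le fun Q hQ => v.map_sum_le fun j _ => ?_
    have hQP : P ≠ Q := (Finset.ne_of_mem_erase hQ).symm
    rw [v.map_mul]
    calc v (algebraMap k K (c ⟨Q, j⟩)) * v (b Q j) ≤ 1 * v (b Q j) := by
          gcongr; exact (P : FunFld.Place k K).2.1 _
      _ ≤ WithZero.exp (-E P) := by rw [one_mul]; exact hcross P Q hQP j
  have hM : v (∑ j : (Σ P, ι P), algebraMap k K (c j) * b j.1 j.2) = WithZero.exp (-m) := by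
    rw [hsplit, v.map_add_eq_of_lt_left (by rw [hPm]; exact hrest), hPm]
  refine ⟨P, hPx1, fun j => ?_⟩
  rw [hM]
  obtain ⟨Q, j⟩ := j
  by_cases hQP : Q = P
  · subst hQP; exact hPx j
  · rw [v.map_mul]
    calc v x * v (b Q j) ≤ 1 * v (b Q j) := by gcongr
      _ = v (b Q j) := one_mul _
      _ ≤ WithZero.exp (-E P) := hcross P Q (Ne.symm hQP) j
      _ < WithZero.exp (-m) := hlt


/-- The family `t^a z_j` is "good" at a single place. -/
theorem good_single (P : FunFld.Place k K) {x : K} (e : ℕ) (hxe : P.1 x ≤ WithZero.exp (-(e : ℤ)))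
    {t : K} (ht : P.1 t = WithZero.exp (-1)) {f : ℕ} (z : Fin f → K) (hz : ∀ j, P.1 (z j) ≤ 1)
    (hres : ∀ d : Fin f → k, (∃ j, d j ≠ 0) → P.1 (∑ j, algebraMap k K (d j) * z j) = 1) :
    ∀ c : Fin e × Fin f → k, (∃ i, c i ≠ 0) → ∃ m < (e : ℤ),
      P.1 (∑ i : Fin e × Fin f, algebraMap k K (c i) * (t ^ (i.1 : ℕ) * z i.2)) =
        WithZero.exp (-m) ∧
      ∀ i : Fin e × Fin f, P.1 (x * (t ^ (i.1 : ℕ) * z i.2)) < WithZero.exp (-m) := by
  classical
  intro c hc
  let A := Finset.univ.filter (fun a : Fin e => ∃ j, c (a, j) ≠ 0)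
  have hA : A.Nonempty := by
    obtain ⟨⟨a, j⟩, h⟩ := hc
    exact ⟨a, Finset.mem_filter.mpr ⟨Finset.mem_univ _, j, h⟩⟩
  let m := A.min' hA
  have hmA : m ∈ A := A.min'_mem hA
  have hmin : ∀ a : Fin e, a < m → ∀ j, c (a, j) = 0 := by
    intro a ha j
    by_contra h
    have : a ∈ A := Finset.mem_filter.mpr ⟨Finset.mem_univ _, j, h⟩
    exact absurd (A.min'_le a this) (not_le.mpr ha)
  let w : Fin e → K := fun a => ∑ j, algebraMap k K (c (a, j)) * z j
  have hsum : ∑ i : Fin e × Fin f, algebraMap k K (c i) * (t ^ (i.1 : ℕ) * z i.2) =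
      ∑ a : Fin e, t ^ (a : ℕ) * w a := by
    rw [Fintype.sum_prod_type]
    refine Finset.sum_congr rfl fun a _ => ?_
    rw [Finset.mul_sum]
    exact Finset.sum_congr rfl fun j _ => by ring
  have hwm : P.1 (w m) = 1 := by
    apply hres
    exact (Finset.mem_filter.mp hmA).2
  have hw1 : ∀ a, P.1 (w a) ≤ 1 := fun a => P.1.map_sum_le fun j _ => by
    rw [P.1.map_mul]; exact mul_le_one' (P.2.1 _) (hz j)
  have hwlt : ∀ a, a < m → w a = 0 := fun a ha =>
    Finset.sum_eq_zero fun j _ => by rw [hmin a ha j]; simp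
  have htpow : ∀ n : ℕ, P.1 (t ^ n) = WithZero.exp (-(n : ℤ)) := by
    intro n; rw [map_pow, ht, ← WithZero.exp_nsmul]; simp
  have hm_lt : ((m : ℕ) : ℤ) < e := by exact_mod_cast m.2
  refine ⟨((m : ℕ) : ℤ), hm_lt, ?_, ?_⟩
  · rw [hsum, ← Finset.add_sum_erase _ _ (Finset.mem_univ m)]
    have hlead : P.1 (t ^ (m : ℕ) * w m) = WithZero.exp (-((m : ℕ) : ℤ)) := by
      rw [P.1.map_mul, htpow, hwm, mul_one]
    have hrest : P.1 (∑ a ∈ Finset.univ.erase m, t ^ (a : ℕ) * w a) <
        WithZero.exp (-((m : ℕ) : ℤ)) := by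
      refine P.1.map_sum_lt (WithZero.exp_ne_zero) fun a ha => ?_
      have ham : a ≠ m := Finset.ne_of_mem_erase ha
      rcases lt_or_gt_of_ne ham with h | h
      · rw [hwlt a h, mul_zero, Valuation.map_zero]; exact zero_lt_iff.mpr WithZero.exp_ne_zero
      · rw [P.1.map_mul, htpow]
        have hma : (m : ℕ) < (a : ℕ) := h
        calc WithZero.exp (-((a : ℕ) : ℤ)) * P.1 (w a) ≤ WithZero.exp (-((a : ℕ) : ℤ)) * 1 := by
              gcongr; exact hw1 a
          _ < WithZero.exp (-((m : ℕ) : ℤ)) := by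
              rw [mul_one, WithZero.exp_lt_exp]; omega
    rw [P.1.map_add_eq_of_lt_left (by rw [hlead]; exact hrest), hlead]
  · intro i
    rw [P.1.map_mul, P.1.map_mul, htpow]
    have h1 : WithZero.exp (-((i.1 : ℕ) : ℤ)) ≤ 1 := by
      rw [← WithZero.exp_zero, WithZero.exp_le_exp]; omega
    calc P.1 x * (WithZero.exp (-((i.1 : ℕ) : ℤ)) * P.1 (z i.2)) ≤
          WithZero.exp (-(e : ℤ)) * (1 * 1) := by
          gcongr
          exact hz _
      _ < WithZero.exp (-((m : ℕ) : ℤ)) := by
          rw [mul_one, mul_one, WithZero.exp_lt_exp]; omega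


lemma val_eq_one_of_residue_ne_zero (P : FunFld.Place k K) (w : P.O)
    (hw : IsLocalRing.residue P.O w ≠ 0) : P.1 (w : K) = 1 := by
  refine le_antisymm w.2 ?_
  by_contra h; push Not at h
  exact hw ((IsLocalRing.residue_eq_zero_iff w).mpr (place_mem_maximalIdeal_of_lt_one P w h))

lemma val_eq_exp_neg_ord (P : FunFld.Place k K) {x : K} (hx : x ≠ 0) :
    P.1 x = WithZero.exp (-P.ord x) := by
  rw [ord_def, neg_neg, WithZero.exp_log ((Valuation.ne_zero_iff P.1).mpr hx)]

lemma exp_neg_one_lt_one : WithZero.exp (-1 : ℤ) < 1 := by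
  rw [← WithZero.exp_zero, WithZero.exp_lt_exp]; norm_num

/-- Stichtenoth 1.3.4: `∑_{P zero of x} v_P(x) deg P ≤ [K : k(x)]`. -/
theorem sum_zeros_le (hK : FunFld.IsFunctionField k K) {x : K} (hx : Transcendental k x)
    (S : Finset (FunFld.Place k K)) (hS : ∀ P ∈ S, P.1 x < 1) :
    ∑ P ∈ S, (P.ord x).toNat * P.deg ≤ Module.finrank k⟮x⟯ K := by
  classical
  have hx0 : x ≠ 0 := fun h => hx (h ▸ isAlgebraic_zero)
  have hfd := finiteDimensional_of_transcendental hK hx
  let e : S → ℕ := fun P => ((P : FunFld.Place k K).ord x).toNat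
  have he : ∀ P : S, (P : FunFld.Place k K).1 x = WithZero.exp (-(e P : ℤ)) := by
    intro P
    rw [val_eq_exp_neg_ord _ hx0]
    have hpos : 0 < (P : FunFld.Place k K).ord x := by
      rw [ord_def]
      have := log_neg_of_lt_one ((Valuation.ne_zero_iff (P : FunFld.Place k K).1).mpr hx0)
        (hS P.1 P.2)
      omega
    simp only [e, Int.toNat_of_nonneg hpos.le]
  have hπ : ∀ P : S, ∃ π : K, (P : FunFld.Place k K).1 π = WithZero.exp (-1) :=
    fun P => place_exists_uniformizer _
  choose π hπ using hπ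
  have ht : ∀ P : S, ∃ t : K, (P : FunFld.Place k K).1 t = WithZero.exp (-1) ∧
      ∀ Q ∈ S, Q ≠ P → Q.1 t ≤ 1 := by
    intro P
    obtain ⟨t, ht⟩ := approximation S (fun Q => if Q = P then π P else 0)
      (fun Q => if Q = P then 2 else 0)
    refine ⟨t, ?_, fun Q hQ hQP => ?_⟩
    · have h1 := ht P P.2
      simp only at h1
      have h2 : (P : FunFld.Place k K).1 (t - π P) < (P : FunFld.Place k K).1 (π P) := by
        rw [hπ P]; exact lt_of_le_of_lt h1 (WithZero.exp_lt_exp.mpr (by norm_num))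
      have : t = π P + (t - π P) := by ring
      rw [this, (P : FunFld.Place k K).1.map_add_eq_of_lt_left h2, hπ P]
    · have h1 := ht Q hQ
      simp only [if_neg hQP, sub_zero] at h1
      simpa using h1
  choose t ht1 ht2 using ht
  let f : S → ℕ := fun P => (P : FunFld.Place k K).deg
  have hresfd : ∀ P : S, FiniteDimensional k (IsLocalRing.ResidueField (P : FunFld.Place k K).O) :=
    fun P => finiteDimensional_residueField hK P
  let bP : ∀ P : S, Module.Basis (Fin (f P)) k
      (IsLocalRing.ResidueField (P : FunFld.Place k K).O) := fun P => Module.finBasis k _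
  have hs : ∀ (P : S) (j : Fin (f P)), ∃ s : (P : FunFld.Place k K).O,
      IsLocalRing.residue _ s = bP P j := fun P j => IsLocalRing.residue_surjective _
  choose s hs using hs
  have hz : ∀ (P : S) (j : Fin (f P)), ∃ z : K,
      (P : FunFld.Place k K).1 (z - s P j) < 1 ∧
      ∀ Q ∈ S, Q ≠ P → Q.1 z ≤ WithZero.exp (-((Q.ord x).toNat : ℤ)) := by
    intro P j
    obtain ⟨z, hz⟩ := approximation S (fun Q => if Q = P then ((s P j : _) : K) else 0)
      (fun Q => if Q = P then 1 else ((Q.ord x).toNat : ℤ))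
    refine ⟨z, ?_, fun Q hQ hQP => ?_⟩
    · have := hz P P.2
      simp only at this
      exact lt_of_le_of_lt this exp_neg_one_lt_one
    · have := hz Q hQ
      simp only [if_neg hQP, sub_zero] at this
      exact this
  choose z hz1 hz2 using hz
  let ι : S → Type := fun P => Fin (e P) × Fin (f P)
  let b : ∀ P : S, ι P → K := fun P i => t P ^ (i.1 : ℕ) * z P i.2
  have hli : LinearIndependent k⟮x⟯ (fun i : (Σ P, ι P) => b i.1 i.2) := by
    refine linearIndependent_sigma hx0 S (fun P hP => (hS P hP).le) ι b (fun P => (e P : ℤ))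
      ?_ ?_
    · intro P
      refine good_single (P : FunFld.Place k K) (e P) (he P).le (ht1 P) (z P) ?_ ?_
      · intro j
        have : z P j = (z P j - s P j) + s P j := by ring
        rw [this]
        exact (P : FunFld.Place k K).1.map_add_le (hz1 P j).le (s P j).2
      · intro d hd
        set v := (P : FunFld.Place k K).1
        let w' : (P : FunFld.Place k K).O := ∑ j, algebraMap k _ (d j) * s P j
        have hw'K : (w' : K) = ∑ j, algebraMap k K (d j) * (s P j : K) := by
          simp only [w', AddSubmonoidClass.coe_finsetSum]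
          rfl
        have hres' : IsLocalRing.residue _ w' ≠ 0 := by
          intro h0
          have h1 : ∑ j, d j • bP P j = 0 := by
            rw [← h0]
            simp only [w', map_sum, map_mul, hs]
            refine Finset.sum_congr rfl fun j _ => ?_
            rw [Algebra.smul_def]; rfl
          obtain ⟨j, hj⟩ := hd
          exact hj (Fintype.linearIndependent_iff.mp (bP P).linearIndependent d h1 j)
        have hv' : v (w' : K) = 1 := val_eq_one_of_residue_ne_zero _ w' hres'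
        have hdiff : v (∑ j, algebraMap k K (d j) * z P j - (w' : K)) < 1 := by
          rw [hw'K, ← Finset.sum_sub_distrib]
          refine v.map_sum_lt one_ne_zero fun j _ => ?_
          rw [← mul_sub, v.map_mul]
          calc v (algebraMap k K (d j)) * v (z P j - s P j) ≤ 1 * v (z P j - s P j) := by
                gcongr; exact (P : FunFld.Place k K).2.1 _
            _ < 1 := by rw [one_mul]; exact hz1 P j
        have : ∑ j, algebraMap k K (d j) * z P j =
            (w' : K) + (∑ j, algebraMap k K (d j) * z P j - (w' : K)) := by ring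
        rw [this, v.map_add_eq_of_lt_left (by rw [hv']; exact hdiff), hv']
    · intro P Q hPQ j
      have hPQ' : (P : FunFld.Place k K) ≠ Q := fun h => hPQ (Subtype.ext h)
      simp only [b]
      rw [(P : FunFld.Place k K).1.map_mul, map_pow]
      calc (P : FunFld.Place k K).1 (t Q) ^ (j.1 : ℕ) * (P : FunFld.Place k K).1 (z Q j.2) ≤
            1 * WithZero.exp (-(e P : ℤ)) := by
            gcongr
            · exact pow_le_one₀ zero_le (ht2 Q P P.2 hPQ')
            · exact hz2 Q j.2 P P.2 hPQ'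
        _ = WithZero.exp (-(e P : ℤ)) := one_mul _
  have hcard := hli.fintype_card_le_finrank
  rw [Fintype.card_sigma] at hcard
  simp only [ι, Fintype.card_prod, Fintype.card_fin] at hcard
  rw [← Finset.sum_coe_sort S]
  exact hcard


theorem val_le_one_of_isIntegral {Γ₀ : Type*} [LinearOrderedCommGroupWithZero Γ₀]
    (v : Valuation K Γ₀) (A : Subalgebra k K) (hA : ∀ a : A, v (a : K) ≤ 1) {u : K}
    (hu : IsIntegral A u) : v u ≤ 1 := by
  obtain ⟨p, hpm, hpu⟩ := hu
  by_contra h; push Not at h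
  have hu0 : v u ≠ 0 := ne_of_gt (lt_trans zero_lt_one h)
  rw [hpm.as_sum] at hpu
  simp only [eval₂_add, eval₂_X_pow, eval₂_finsetSum, eval₂_mul, eval₂_C] at hpu
  set m := p.natDegree
  have hlt : v (∑ i ∈ Finset.range m, algebraMap A K (p.coeff i) * u ^ i) < v (u ^ m) := by
    have hum0 : v (u ^ m) ≠ 0 := by rw [map_pow]; exact pow_ne_zero _ hu0
    refine v.map_sum_lt hum0 fun i hi => ?_
    rw [v.map_mul, map_pow, map_pow]
    have hi' : i < m := Finset.mem_range.mp hi
    calc v (algebraMap A K (p.coeff i)) * v u ^ i ≤ 1 * v u ^ i := by gcongr; exact hA _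
      _ = v u ^ i := one_mul _
      _ < v u ^ m := pow_lt_pow_right₀ h hi'
  have := congrArg v hpu
  rw [v.map_add_eq_of_lt_left hlt, v.map_zero, map_pow] at this
  exact pow_ne_zero _ hu0 this

open IntermediateField.algebraAdjoinAdjoin in
theorem exists_integral_linearIndependent (hK : FunFld.IsFunctionField k K) {x : K}
    (hx : Transcendental k x) :
    ∃ u : Fin (Module.finrank k⟮x⟯ K) → K, LinearIndependent k⟮x⟯ u ∧
      ∀ j, IsIntegral (Algebra.adjoin k {x}) (u j) := by
  have hfd := finiteDimensional_of_transcendental hK hx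
  let B := Module.finBasis k⟮x⟯ K
  have halg : Algebra.IsAlgebraic (Algebra.adjoin k {x}) K :=
    isAlgebraic_adjoin_of_finiteDimensional hfd
  have h : ∀ j, ∃ y : Algebra.adjoin k {x}, y ≠ 0 ∧
      IsIntegral (Algebra.adjoin k {x}) (y • B j) := fun j =>
    (halg.isAlgebraic (B j)).exists_integral_multiple
  choose y hy0 hyint using h
  refine ⟨fun j => y j • B j, ?_, hyint⟩
  have hunit : ∀ j, IsUnit (algebraMap (Algebra.adjoin k {x}) k⟮x⟯ (y j)) := fun j =>
    isUnit_iff_ne_zero.mpr ((map_ne_zero_iff _ (FaithfulSMul.algebraMap_injective _ _)).mpr (hy0 j))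
  have := B.linearIndependent.units_smul (fun j => (hunit j).unit)
  convert this using 1
  ext j
  simp only [Pi.smul_apply']
  rw [Algebra.smul_def, Units.smul_def, IsUnit.unit_spec, Algebra.smul_def]
  rfl


theorem linearIndependent_pow_of_transcendental {x : K} (hx : Transcendental k x) :
    LinearIndependent k (fun n : ℕ => x ^ n) := by
  classical
  rw [linearIndependent_iff']
  intro s g hg i hi
  let p : k[X] := ∑ j ∈ s, C (g j) * X ^ j
  have hp : aeval x p = 0 := by
    simp only [p, map_sum, map_mul, aeval_C, map_pow, aeval_X]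
    rw [← hg]
    exact Finset.sum_congr rfl fun j _ => by rw [Algebra.smul_def]
  have hp0 : p = 0 := by
    by_contra h
    exact hx ⟨p, h, hp⟩
  have := congrArg (Polynomial.coeff · i) hp0
  simp only [p, finsetSum_coeff, coeff_C_mul_X_pow, coeff_zero] at this
  rwa [Finset.sum_ite_eq s i, if_pos hi] at this

/-- The pole divisor of `x`. -/
noncomputable def poleDiv (x : K) : FunFld.Divisor k K :=
  (-(FunFld.div k x)).mapRange (fun n => max n 0) (by simp)

lemma poleDiv_apply (hK : FunFld.IsFunctionField k K) (x : K) (P : FunFld.Place k K) :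
    poleDiv (k := k) x P = max (-P.ord x) 0 := by
  simp [poleDiv, div_apply hK]

lemma poleDiv_nonneg (x : K) : 0 ≤ poleDiv (k := k) x := fun P => by simp [poleDiv]

lemma deg_smul (m : ℤ) (D : FunFld.Divisor k K) : FunFld.Divisor.deg (m • D) = m * D.deg := by
  unfold FunFld.Divisor.deg
  rw [Finsupp.sum_smul_index (by simp), Finsupp.mul_sum]
  exact Finsupp.sum_congr fun P _ => by ring

lemma ell_zero (hK : FunFld.IsFunctionField k K) : FunFld.ell (0 : FunFld.Divisor k K) = 1 := by
  rw [FunFld.ell, L_zero hK, Submodule.one_eq_span, finrank_span_singleton one_ne_zero]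

/-- Lower bound `ℓ((l+c)·(x)_∞) ≥ (l+1)[K:k(x)]` (Stichtenoth 1.4.11). -/
theorem exists_ell_poleDiv_lower (hK : FunFld.IsFunctionField k K) {x : K}
    (hx : Transcendental k x) : ∃ c : ℕ, ∀ l : ℕ,
      (((l + 1 : ℕ) * Module.finrank k⟮x⟯ K : ℕ) : ℤ) ≤
        (FunFld.ell ((((l + c : ℕ) : ℤ)) • poleDiv (k := k) x) : ℤ) := by
  classical
  set n := Module.finrank k⟮x⟯ K with hn
  obtain ⟨u, hli, hint⟩ := exists_integral_linearIndependent hK hx
  set B := poleDiv (k := k) x with hBdef
  have hx0 : x ≠ 0 := fun h => hx (h ▸ isAlgebraic_zero)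
  have htr' : Transcendental k x⁻¹ := fun h => hx (IsAlgebraic.inv_iff.mp h)
  let poles := (finite_zeros hK htr').toFinset
  have hmempoles : ∀ P : FunFld.Place k K, 1 < P.1 x → P ∈ poles := by
    intro P hP
    simp only [poles, Set.Finite.mem_toFinset, Set.mem_ofPred_eq]
    rw [Valuation.map_inv]; exact inv_lt_one_of_one_lt₀ hP
  have hnonpole : ∀ P : FunFld.Place k K, P.1 x ≤ 1 → ∀ j, P.1 (u j) ≤ 1 := by
    intro P hPx j
    refine val_le_one_of_isIntegral P.1 (Algebra.adjoin k {x}) ?_ (hint j)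
    intro a
    obtain ⟨p, hp⟩ := (Algebra.adjoin_singleton_eq_range_aeval k x).le a.2
    have hp' : aeval x p = (a : K) := hp
    rw [← hp']
    exact val_aeval_le_one P.1 P.2.1 hPx p
  have hxv0 : ∀ P : FunFld.Place k K, P.1 x ≠ 0 := fun P => (Valuation.ne_zero_iff P.1).mpr hx0
  have hBpole : ∀ P : FunFld.Place k K, 1 < P.1 x →
      P.1 x = WithZero.exp (B P) ∧ 1 ≤ B P := by
    intro P hP
    have hlog := log_pos_of_one_lt (hxv0 P) hP
    have hBP : B P = WithZero.log (P.1 x) := by
      rw [hBdef, poleDiv_apply hK, ord_def, neg_neg]; omega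
    refine ⟨?_, by omega⟩
    rw [hBP, WithZero.exp_log (hxv0 P)]
  have hBnon : ∀ P : FunFld.Place k K, P.1 x ≤ 1 → B P = 0 := by
    intro P hP
    have : WithZero.log (P.1 x) ≤ 0 := by
      have h1 : WithZero.exp (WithZero.log (P.1 x)) ≤ WithZero.exp 0 := by
        rw [WithZero.exp_log (hxv0 P), WithZero.exp_zero]; exact hP
      exact WithZero.exp_le_exp.mp h1
    rw [hBdef, poleDiv_apply hK, ord_def, neg_neg]; omega
  have hB0 : ∀ P, 0 ≤ B P := fun P => poleDiv_nonneg x P
  let c : ℕ := ∑ P ∈ poles, ∑ j, (WithZero.log (P.1 (u j))).toNat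
  have hpole_u : ∀ P : FunFld.Place k K, 1 < P.1 x → ∀ j,
      P.1 (u j) ≤ WithZero.exp ((c : ℤ) * B P) := by
    intro P hP j
    by_cases hu0 : P.1 (u j) = 0
    · rw [hu0]; exact zero_le
    rw [← WithZero.exp_log hu0, WithZero.exp_le_exp]
    have h1 : (WithZero.log (P.1 (u j))).toNat ≤ ∑ j, (WithZero.log (P.1 (u j))).toNat :=
      Finset.single_le_sum (f := fun j => (WithZero.log (P.1 (u j))).toNat)
        (fun _ _ => Nat.zero_le _) (Finset.mem_univ j)
    have h2 : ∑ j, (WithZero.log (P.1 (u j))).toNat ≤ c :=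
      Finset.single_le_sum (f := fun P => ∑ j, (WithZero.log (P.1 (u j))).toNat)
        (fun _ _ => Nat.zero_le _) (hmempoles P hP)
    have h3 := Int.self_le_toNat (WithZero.log (P.1 (u j)))
    have h4 := (hBpole P hP).2
    have h5 : ((WithZero.log (P.1 (u j))).toNat : ℤ) ≤ (c : ℤ) := by exact_mod_cast h1.trans h2
    nlinarith
  refine ⟨c, fun l => ?_⟩
  set m : ℤ := ((l + c : ℕ) : ℤ) with hm
  let w : Fin (l + 1) × Fin n → K := fun ij => x ^ (ij.1 : ℕ) * u ij.2
  have hw : ∀ ij, w ij ∈ FunFld.L (m • B) := by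
    intro ij P
    rw [Finsupp.smul_apply, smul_eq_mul]
    simp only [w]
    rw [P.1.map_mul, map_pow]
    by_cases hP : 1 < P.1 x
    · obtain ⟨hPx, hB1⟩ := hBpole P hP
      rw [hPx, ← WithZero.exp_nsmul]
      calc WithZero.exp (((ij.1 : ℕ)) • B P) * P.1 (u ij.2) ≤
            WithZero.exp (((ij.1 : ℕ)) • B P) * WithZero.exp ((c : ℤ) * B P) := by
            gcongr; exact hpole_u P hP ij.2
        _ = WithZero.exp (((ij.1 : ℕ) : ℤ) * B P + (c : ℤ) * B P) := by
            rw [WithZero.exp_add, nsmul_eq_mul]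
        _ ≤ WithZero.exp (m * B P) := by
            rw [WithZero.exp_le_exp, hm]
            have : ((ij.1 : ℕ) : ℤ) ≤ l := by have := ij.1.2; omega
            push_cast
            nlinarith
    · push Not at hP
      rw [hBnon P hP, mul_zero, WithZero.exp_zero]
      calc P.1 x ^ (ij.1 : ℕ) * P.1 (u ij.2) ≤ 1 * 1 := by
            gcongr
            · exact pow_le_one₀ zero_le hP
            · exact hnonpole P hP ij.2
        _ = 1 := one_mul 1
  have hpowli : LinearIndependent k (fun i : Fin (l + 1) =>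
      (⟨x ^ (i : ℕ), pow_mem (mem_adjoin_simple_self k x) _⟩ : k⟮x⟯)) := by
    apply LinearIndependent.of_comp (k⟮x⟯.val.toLinearMap)
    exact (linearIndependent_pow_of_transcendental hx).comp (fun i : Fin (l + 1) => (i : ℕ))
      Fin.val_injective
  have hwli : LinearIndependent k w := by
    have := linearIndependent_smul hpowli hli
    convert this using 1
    ext ij
    simp only [w, Algebra.smul_def]
    rfl
  let w' : Fin (l + 1) × Fin n → FunFld.L (m • B) := fun ij => ⟨w ij, hw ij⟩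
  have hw'li : LinearIndependent k w' := by
    apply LinearIndependent.of_comp (FunFld.L (m • B)).subtype
    exact hwli
  have hfdL := finiteDimensional_L hK (m • B)
  have hcard := hw'li.fintype_card_le_finrank
  simp only [Fintype.card_prod, Fintype.card_fin] at hcard
  have : ((l + 1) * n : ℕ) ≤ FunFld.ell (m • B) := hcard
  exact_mod_cast this

/-- Stichtenoth 1.4.11 (one inequality): `[K : k(x)] ≤ deg (x)_∞`. -/
theorem finrank_le_deg_poleDiv (hK : FunFld.IsFunctionField k K) {x : K}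
    (hx : Transcendental k x) : (Module.finrank k⟮x⟯ K : ℤ) ≤ (poleDiv (k := k) x).deg := by
  classical
  set n := Module.finrank k⟮x⟯ K with hn
  set B := poleDiv (k := k) x with hBdef
  obtain ⟨c, hc⟩ := exists_ell_poleDiv_lower hK hx
  have key : ∀ l : ℕ, ((l + 1 : ℕ) * n : ℤ) ≤ 1 + ((l + c : ℕ) : ℤ) * B.deg := by
    intro l
    set m : ℤ := ((l + c : ℕ) : ℤ) with hm
    have hell : (FunFld.ell (m • B) : ℤ) ≤ 1 + m * B.deg := by
      have hle : (0 : FunFld.Divisor k K) ≤ m • B := by
        intro P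
        rw [Finsupp.smul_apply, smul_eq_mul]
        exact mul_nonneg (by positivity) (poleDiv_nonneg x P)
      have := ell_sub_ell_le hK hle
      have hdeg0 : FunFld.Divisor.deg (0 : FunFld.Divisor k K) = 0 := by
        simp [FunFld.Divisor.deg]
      rw [ell_zero hK, deg_smul, hdeg0] at this
      push_cast at this
      linarith
    have h1 : (((l + 1 : ℕ) * n : ℕ) : ℤ) ≤ (FunFld.ell (m • B) : ℤ) := hc l
    push_cast at h1 ⊢
    linarith
  by_contra hlt
  push Not at hlt
  have hn1 : 1 ≤ n := by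
    have := finiteDimensional_of_transcendental hK hx
    have := Module.finrank_pos (R := k⟮x⟯) (M := K)
    omega
  have h := key (c * n + 1)
  push_cast at h
  have hdeg : B.deg ≤ (n : ℤ) - 1 := by omega
  have hc0 : (0 : ℤ) ≤ c := by positivity
  have hprod := mul_le_mul_of_nonneg_left hdeg (show (0:ℤ) ≤ (c : ℤ) * n + 1 + c by positivity)
  nlinarith


lemma adjoin_inv_eq {x : K} : k⟮x⁻¹⟯ = k⟮x⟯ := by
  apply le_antisymm
  · rw [adjoin_simple_le_iff]; exact inv_mem (mem_adjoin_simple_self k x)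
  · rw [adjoin_simple_le_iff]
    have := inv_mem (mem_adjoin_simple_self k x⁻¹)
    rwa [inv_inv] at this

lemma ord_inv (P : FunFld.Place k K) (x : K) : P.ord x⁻¹ = -P.ord x := by
  rw [ord_def, ord_def, Valuation.map_inv, WithZero.log_inv]

lemma deg_eq_sum_support (D : FunFld.Divisor k K) :
    D.deg = ∑ P ∈ D.support, D P * (P.deg : ℤ) := rfl

theorem deg_poleDiv_le (hK : FunFld.IsFunctionField k K) {x : K} (hx : Transcendental k x) :
    (poleDiv (k := k) x).deg ≤ Module.finrank k⟮x⟯ K := by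
  classical
  have htr' : Transcendental k x⁻¹ := fun h => hx (IsAlgebraic.inv_iff.mp h)
  have hx0 : x ≠ 0 := fun h => hx (h ▸ isAlgebraic_zero)
  set S := (poleDiv (k := k) x).support
  have hS : ∀ P ∈ S, P.1 x⁻¹ < 1 := by
    intro P hP
    have h1 : poleDiv (k := k) x P ≠ 0 := Finsupp.mem_support_iff.mp hP
    rw [poleDiv_apply hK] at h1
    have h2 : 0 < -P.ord x := by omega
    rw [ord_def] at h2
    have h3 : 0 < WithZero.log (P.1 x) := by omega
    have h4 : 1 < P.1 x := by
      have : WithZero.exp 0 < WithZero.exp (WithZero.log (P.1 x)) := WithZero.exp_lt_exp.mpr h3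
      rwa [WithZero.exp_zero, WithZero.exp_log ((Valuation.ne_zero_iff P.1).mpr hx0)] at this
    rw [Valuation.map_inv]; exact inv_lt_one_of_one_lt₀ h4
  have h := sum_zeros_le hK htr' S hS
  rw [adjoin_inv_eq] at h
  rw [deg_eq_sum_support]
  have e : ∑ P ∈ S, poleDiv (k := k) x P * (P.deg : ℤ) =
      ((∑ P ∈ S, (P.ord x⁻¹).toNat * P.deg : ℕ) : ℤ) := by
    push_cast
    refine Finset.sum_congr rfl fun P hP => ?_
    rw [poleDiv_apply hK, ord_inv]
    have : 0 ≤ -P.ord x := by
      have h1 : poleDiv (k := k) x P ≠ 0 := Finsupp.mem_support_iff.mp hP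
      rw [poleDiv_apply hK] at h1; omega
    rw [Int.toNat_of_nonneg this, max_eq_left this]
  rw [e]
  exact_mod_cast h

theorem deg_poleDiv_eq (hK : FunFld.IsFunctionField k K) {x : K} (hx : Transcendental k x) :
    (poleDiv (k := k) x).deg = Module.finrank k⟮x⟯ K :=
  le_antisymm (deg_poleDiv_le hK hx) (finrank_le_deg_poleDiv hK hx)

theorem div_eq_sub (hK : FunFld.IsFunctionField k K) (x : K) :
    FunFld.div k x = poleDiv (k := k) x⁻¹ - poleDiv (k := k) x := by
  ext P
  rw [Finsupp.sub_apply, poleDiv_apply hK, poleDiv_apply hK, ord_inv, div_apply hK]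
  omega

theorem deg_div_eq_zero (hK : FunFld.IsFunctionField k K) (x : K) :
    (FunFld.div k x).deg = 0 := by
  by_cases halg : IsAlgebraic k x
  · have hdiv : FunFld.div k x = 0 := by
      ext P
      rw [div_apply hK, Finsupp.coe_zero, Pi.zero_apply, ord_def]
      by_cases hx0 : x = 0
      · subst hx0; simp
      · obtain ⟨c, rfl⟩ := hK.2 _ halg
        have hc : c ≠ 0 := by rintro rfl; simp at hx0
        rw [val_algebraMap_eq_one P.1 P.2.1 hc]; simp
    rw [hdiv]; simp [FunFld.Divisor.deg]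
  · have htr : Transcendental k x := halg
    have htr' : Transcendental k x⁻¹ := fun h => htr (IsAlgebraic.inv_iff.mp h)
    rw [div_eq_sub hK, deg_sub, deg_poleDiv_eq hK htr, deg_poleDiv_eq hK htr', adjoin_inv_eq]
    simp

theorem sum_zeros_eq_finrank (hK : FunFld.IsFunctionField k K) {x : K} (hx : Transcendental k x) :
    (∑ P ∈ (FunFld.div k x).support with 0 < FunFld.div k x P,
        FunFld.div k x P * (P.deg : ℤ)) = Module.finrank k⟮x⟯ K := by
  classical
  have htr' : Transcendental k x⁻¹ := fun h => hx (IsAlgebraic.inv_iff.mp h)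
  have h := deg_poleDiv_eq hK htr'
  rw [adjoin_inv_eq] at h
  rw [← h, deg_eq_sum_support]
  have hsupp : (poleDiv (k := k) x⁻¹).support =
      (FunFld.div k x).support.filter (fun P => 0 < FunFld.div k x P) := by
    ext P
    simp only [Finsupp.mem_support_iff, Finset.mem_filter, poleDiv_apply hK, ord_inv, neg_neg,
      div_apply hK]
    omega
  rw [hsupp]
  refine Finset.sum_congr rfl fun P hP => ?_
  rw [poleDiv_apply hK, ord_inv, neg_neg, div_apply hK]
  have : 0 < P.ord x := by
    have := (Finset.mem_filter.mp hP).2; rwa [div_apply hK] at this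
  rw [max_eq_left this.le]


lemma deg_nonneg {D : FunFld.Divisor k K} (hD : 0 ≤ D) : 0 ≤ D.deg := by
  rw [deg_eq_sum_support]
  exact Finset.sum_nonneg fun P _ => mul_nonneg (hD P) (by positivity)

theorem L_eq_bot_of_deg_neg (hK : FunFld.IsFunctionField k K) (D : FunFld.Divisor k K)
    (h : D.deg < 0) : FunFld.L D = ⊥ := by
  by_contra hne
  obtain ⟨x, hx0, hx⟩ := (L_ne_bot_iff hK D).mp hne
  have := deg_nonneg hx
  rw [deg_add, deg_div_eq_zero hK] at this
  omega

end Degree

section Riemann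

theorem L_add_div_eq_map (hK : FunFld.IsFunctionField k K) (D : FunFld.Divisor k K) {z : K}
    (hz : z ≠ 0) :
    FunFld.L D = Submodule.map (LinearMap.mulLeft k z) (FunFld.L (D + FunFld.div k z)) := by
  ext y
  constructor
  · intro hy
    refine ⟨z⁻¹ * y, ?_, ?_⟩
    · show z⁻¹ * y ∈ FunFld.L (D + FunFld.div k z)
      rw [← mul_mem_L_iff hK D z _ hz, ← mul_assoc, mul_inv_cancel₀ hz, one_mul]; exact hy
    · simp [LinearMap.mulLeft_apply, ← mul_assoc, mul_inv_cancel₀ hz]
  · rintro ⟨w, hw, rfl⟩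
    exact (mul_mem_L_iff hK D z w hz).mpr hw

theorem ell_add_div (hK : FunFld.IsFunctionField k K) (D : FunFld.Divisor k K) {z : K}
    (hz : z ≠ 0) : FunFld.ell (D + FunFld.div k z) = FunFld.ell D := by
  have hinj : Function.Injective (LinearMap.mulLeft k z) := fun a b h => by
    simpa [LinearMap.mulLeft_apply, hz] using h
  rw [FunFld.ell, FunFld.ell, L_add_div_eq_map hK D hz]
  exact (Submodule.equivMapOfInjective _ hinj _).finrank_eq

theorem deg_add_div (hK : FunFld.IsFunctionField k K) (D : FunFld.Divisor k K) (z : K) :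
    (D + FunFld.div k z).deg = D.deg := by
  rw [deg_add, deg_div_eq_zero hK, add_zero]

lemma exists_transcendental (hK : FunFld.IsFunctionField k K) : ∃ x : K, Transcendental k x :=
  ⟨hK.1.choose, hK.1.choose_spec.1⟩

/-- Riemann: `deg D - ℓ(D)` is bounded. -/
theorem exists_bound (hK : FunFld.IsFunctionField k K) :
    ∃ γ : ℤ, ∀ D : FunFld.Divisor k K, D.deg - FunFld.ell D ≤ γ := by
  classical
  obtain ⟨x, hx⟩ := exists_transcendental hK
  set n := Module.finrank k⟮x⟯ K with hn
  set B := poleDiv (k := k) x with hBdef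
  have hBdeg : B.deg = n := deg_poleDiv_eq hK hx
  have hB0 : 0 ≤ B := poleDiv_nonneg x
  have hn1 : 1 ≤ n := by
    have := finiteDimensional_of_transcendental hK hx
    have := Module.finrank_pos (R := k⟮x⟯) (M := K)
    omega
  obtain ⟨c, hc⟩ := exists_ell_poleDiv_lower hK hx
  have hdegm : ∀ m : ℤ, (m • B).deg = m * n := fun m => by rw [deg_smul, hBdeg]
  -- for m ≥ c, deg (m B) - ℓ (m B) ≤ (c - 1) n
  have hmB : ∀ m : ℕ, c ≤ m → ((m : ℤ) • B).deg - FunFld.ell ((m : ℤ) • B) ≤ ((c : ℤ) - 1) * n := by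
    intro m hm
    have h1 : (((m - c + 1 : ℕ) * n : ℕ) : ℤ) ≤ (FunFld.ell ((((m - c + c : ℕ) : ℤ)) • B) : ℤ) :=
      hc (m - c)
    rw [Nat.sub_add_cancel hm] at h1
    rw [hdegm]
    push_cast [Nat.cast_sub hm] at h1
    nlinarith
  refine ⟨((c : ℤ) - 1) * n, fun D => ?_⟩
  -- positive part
  let Dp : FunFld.Divisor k K := D.mapRange (fun n => max n 0) (by simp)
  have hDDp : D ≤ Dp := fun Q => by simp [Dp]
  have hDp0 : 0 ≤ Dp := fun Q => by simp [Dp]
  have hdegDp : 0 ≤ Dp.deg := deg_nonneg hDp0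
  -- choose m large
  set m : ℕ := c + Dp.deg.toNat with hm
  have hmc : c ≤ m := by omega
  have hlow : (((m - c + 1 : ℕ) * n : ℕ) : ℤ) ≤ (FunFld.ell ((m : ℤ) • B) : ℤ) := by
    have := hc (m - c)
    rwa [Nat.sub_add_cancel hmc] at this
  -- ℓ(mB - Dp) > 0
  have hle1 : (m : ℤ) • B - Dp ≤ (m : ℤ) • B := by
    intro Q
    have := hDp0 Q
    simp only [Finsupp.coe_zero, Pi.zero_apply] at this
    simp only [Finsupp.sub_apply]; linarith
  have hdiff := ell_sub_ell_le hK hle1
  rw [deg_sub] at hdiff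
  have hpos : 0 < FunFld.ell ((m : ℤ) • B - Dp) := by
    have h2 : ((m - c + 1 : ℕ) : ℤ) = Dp.deg.toNat + 1 := by
      rw [hm]; push_cast; omega
    have h3 : (((m - c + 1 : ℕ) * n : ℕ) : ℤ) = (Dp.deg.toNat + 1) * n := by
      push_cast; rw [← h2]; push_cast; ring
    have h4 : (Dp.deg.toNat : ℤ) = Dp.deg := Int.toNat_of_nonneg hdegDp
    have : (0 : ℤ) < FunFld.ell ((m : ℤ) • B - Dp) := by
      rw [h3, h4] at hlow
      nlinarith
    exact_mod_cast this
  have hne : FunFld.L ((m : ℤ) • B - Dp) ≠ ⊥ := by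
    intro h
    rw [FunFld.ell, h, finrank_bot] at hpos
    exact lt_irrefl _ hpos
  obtain ⟨z, hz0, hz⟩ := (L_ne_bot_iff hK _).mp hne
  -- A := Dp - div z ≤ m B
  have hz0' : z⁻¹ ≠ 0 := inv_ne_zero hz0
  have hdivinv : FunFld.div k z⁻¹ = -FunFld.div k z := by
    ext Q; rw [Finsupp.neg_apply, div_apply hK, div_apply hK, ord_inv]
  set A := Dp + FunFld.div k z⁻¹ with hA
  have hAle : A ≤ (m : ℤ) • B := by
    intro Q
    have := hz Q
    simp only [hA, hdivinv, Finsupp.add_apply, Finsupp.sub_apply, Finsupp.neg_apply,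
      Finsupp.coe_zero, Pi.zero_apply] at this ⊢
    linarith
  have hA1 := ell_sub_ell_le hK hAle
  have hA2 : FunFld.ell A = FunFld.ell Dp := ell_add_div hK Dp hz0'
  have hA3 : A.deg = Dp.deg := deg_add_div hK Dp z⁻¹
  have hD1 := ell_sub_ell_le hK hDDp
  have := hmB m hmc
  linarith


theorem bddAbove_genus_set (hK : FunFld.IsFunctionField k K) :
    BddAbove (Set.range fun D : FunFld.Divisor k K => (D.deg + 1 - (FunFld.ell D : ℤ)).toNat) := by
  obtain ⟨γ, hγ⟩ := exists_bound hK
  refine ⟨(γ + 1).toNat, ?_⟩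
  rintro _ ⟨D, rfl⟩
  have := hγ D
  exact Int.toNat_le_toNat (by linarith)

theorem le_genus (hK : FunFld.IsFunctionField k K) (D : FunFld.Divisor k K) :
    D.deg + 1 - (FunFld.ell D : ℤ) ≤ FunFld.genus k K := by
  have h := le_csSup (bddAbove_genus_set hK) ⟨D, rfl⟩
  calc D.deg + 1 - (FunFld.ell D : ℤ) ≤ ((D.deg + 1 - (FunFld.ell D : ℤ)).toNat : ℤ) :=
        Int.self_le_toNat _
    _ ≤ FunFld.genus k K := by exact_mod_cast h

theorem exists_genus_eq (hK : FunFld.IsFunctionField k K) :
    ∃ A : FunFld.Divisor k K, A.deg + 1 - (FunFld.ell A : ℤ) = FunFld.genus k K := by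
  have hne : (Set.range fun D : FunFld.Divisor k K =>
      (D.deg + 1 - (FunFld.ell D : ℤ)).toNat).Nonempty := ⟨_, ⟨0, rfl⟩⟩
  obtain ⟨A, hA⟩ := Nat.sSup_mem hne (bddAbove_genus_set hK)
  have hg : FunFld.genus k K = (A.deg + 1 - (FunFld.ell A : ℤ)).toNat := hA.symm
  by_cases hpos : 0 ≤ A.deg + 1 - (FunFld.ell A : ℤ)
  · exact ⟨A, by rw [hg, Int.toNat_of_nonneg hpos]⟩
  · refine ⟨0, ?_⟩
    have : FunFld.genus k K = 0 := by rw [hg]; omega
    rw [this, ell_zero hK]; simp [FunFld.Divisor.deg]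

theorem riemann (hK : FunFld.IsFunctionField k K) :
    (∀ D : FunFld.Divisor k K, D.deg + 1 - (FunFld.ell D : ℤ) ≤ FunFld.genus k K) ∧
    ∃ N : ℤ, ∀ D : FunFld.Divisor k K, N ≤ D.deg →
      D.deg + 1 - (FunFld.ell D : ℤ) = FunFld.genus k K := by
  refine ⟨le_genus hK, ?_⟩
  obtain ⟨A₀, hA₀⟩ := exists_genus_eq hK
  refine ⟨A₀.deg + FunFld.genus k K, fun D hD => ?_⟩
  have h1 := le_genus hK (D - A₀)
  rw [deg_sub] at h1
  have hpos : 0 < FunFld.ell (D - A₀) := by
    have : (0 : ℤ) < FunFld.ell (D - A₀) := by linarith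
    exact_mod_cast this
  have hne : FunFld.L (D - A₀) ≠ ⊥ := by
    intro h
    rw [FunFld.ell, h, finrank_bot] at hpos
    exact lt_irrefl _ hpos
  obtain ⟨z, hz0, hz⟩ := (L_ne_bot_iff hK _).mp hne
  have hle : A₀ ≤ D + FunFld.div k z := by
    intro Q
    have := hz Q
    simp only [Finsupp.add_apply, Finsupp.sub_apply, Finsupp.coe_zero, Pi.zero_apply] at this ⊢
    linarith
  have h2 := ell_sub_ell_le hK hle
  have h3 := le_genus hK (D + FunFld.div k z)
  rw [ell_add_div hK D hz0, deg_add_div hK] at h2 h3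
  linarith

end Riemann

end Groth.Agent.Lib.Helper16.FunFldLib
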