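import Groth.Agent.Lib.Helper16.FunFld
import Mathlib.LinearAlgebra.Dual.Lemmas
import Mathlib.LinearAlgebra.FiniteDimensional.Lemmas
import Mathlib.LinearAlgebra.Dimension.RankNullity
import Mathlib.Order.Preorder.Finsupp
import Mathlib.FieldTheory.IntermediateField.Algebraic
import Mathlib.Algebra.Polynomial.Degree.SmallDegree

/-! helper16: function fields of one variable, part 2 (genus zero, adeles, Weil differentials). -/

open IntermediateField Polynomial

namespace Groth.Agent.Lib.Helper16.FunFldLib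

variable {k K : Type*} [Field k] [Field K] [Algebra k K]

section GenusZero

lemma place_deg_pos (hK : FunFld.IsFunctionField k K) (P : FunFld.Place k K) : 0 < P.deg := by
  have := finiteDimensional_residueField hK P
  exact Module.finrank_pos

lemma mem_L_poleDiv (hK : FunFld.IsFunctionField k K) (x : K) :
    x ∈ FunFld.L (poleDiv (k := k) x) := by
  intro P
  rw [poleDiv_apply hK]
  by_cases hx : x = 0
  · rw [hx, Valuation.map_zero]; exact zero_le
  · rw [val_eq_exp_neg_ord P hx, WithZero.exp_le_exp]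
    exact le_max_left _ _

lemma mul_mem_L {D E : FunFld.Divisor k K} {a b : K} (ha : a ∈ FunFld.L D) (hb : b ∈ FunFld.L E) :
    a * b ∈ FunFld.L (D + E) := by
  intro P
  rw [Valuation.map_mul, Finsupp.add_apply, WithZero.exp_add]
  exact mul_le_mul' (ha P) (hb P)

lemma one_mem_L {D : FunFld.Divisor k K} (hD : 0 ≤ D) : (1 : K) ∈ FunFld.L D := by
  intro P
  rw [Valuation.map_one, ← WithZero.exp_zero, WithZero.exp_le_exp]
  exact hD P

lemma pow_mem_L {D : FunFld.Divisor k K} {a : K} (ha : a ∈ FunFld.L D) (n : ℕ) :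
    a ^ n ∈ FunFld.L ((n : ℤ) • D) := by
  induction n with
  | zero =>
    intro P
    simp
  | succ n ih =>
    have := mul_mem_L ih ha
    have e : ((n : ℤ) • D + D) = ((n + 1 : ℕ) : ℤ) • D := by
      push_cast; rw [add_smul, one_smul]
    rw [e] at this
    rwa [pow_succ]

theorem ell_smul_poleDiv_ge (hK : FunFld.IsFunctionField k K) {x : K} (hx : Transcendental k x)
    (l : ℕ) : l + 1 ≤ FunFld.ell ((l : ℤ) • poleDiv (k := k) x) := by
  classical
  set B := poleDiv (k := k) x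
  have hB0 : 0 ≤ B := poleDiv_nonneg x
  have hmem : ∀ i : Fin (l + 1), x ^ (i : ℕ) ∈ FunFld.L ((l : ℤ) • B) := by
    intro i
    have h1 := pow_mem_L (mem_L_poleDiv hK x) (i : ℕ)
    refine L_mono ?_ h1
    intro P
    simp only [Finsupp.smul_apply, smul_eq_mul]
    have hi : ((i : ℕ) : ℤ) ≤ l := by have := i.2; omega
    exact mul_le_mul_of_nonneg_right hi (hB0 P)
  let w : Fin (l + 1) → FunFld.L ((l : ℤ) • B) := fun i => ⟨x ^ (i : ℕ), hmem i⟩
  have hli : LinearIndependent k w := by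
    apply LinearIndependent.of_comp (FunFld.L ((l : ℤ) • B)).subtype
    exact (linearIndependent_pow_of_transcendental hx).comp (fun i : Fin (l + 1) => (i : ℕ))
      Fin.val_injective
  have := finiteDimensional_L hK ((l : ℤ) • B)
  have hcard := hli.fintype_card_le_finrank
  rw [Fintype.card_fin] at hcard
  exact hcard

theorem genus_eq_zero_of_deg_poleDiv (hK : FunFld.IsFunctionField k K) {x : K}
    (hx : Transcendental k x) (h : (poleDiv (k := k) x).deg = 1) : FunFld.genus k K = 0 := by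
  obtain ⟨N, hN⟩ := (riemann hK).2
  set l : ℕ := N.toNat
  have hdeg : ((l : ℤ) • poleDiv (k := k) x).deg = l := by rw [deg_smul, h, mul_one]
  have h1 := hN ((l : ℤ) • poleDiv (k := k) x) (by rw [hdeg]; exact Int.self_le_toNat N)
  have h2 := ell_smul_poleDiv_ge hK hx l
  rw [hdeg] at h1
  have : (FunFld.genus k K : ℤ) ≤ 0 := by
    rw [← h1]; omega
  omega

lemma finrank_eq_one_of_eq_top {E : IntermediateField k K} (h : E = ⊤) :
    Module.finrank E K = 1 := by
  subst h; exact IntermediateField.finrank_top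

lemma transcendental_of_adjoin_eq_top (hK : FunFld.IsFunctionField k K) {x : K}
    (h : k⟮x⟯ = ⊤) : Transcendental k x := by
  intro halg
  obtain ⟨c, hc⟩ := hK.2 x halg
  obtain ⟨y, hy⟩ := exists_transcendental hK
  apply hy
  have hbot : k⟮x⟯ = ⊥ := by
    rw [IntermediateField.adjoin_simple_eq_bot_iff, ← hc]
    exact IntermediateField.algebraMap_mem _ c
  have hy' : y ∈ k⟮x⟯ := by rw [h]; trivial
  rw [hbot, IntermediateField.mem_bot] at hy'
  obtain ⟨d, rfl⟩ := hy'
  exact isAlgebraic_algebraMap d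

lemma ord_eq_zero_of_isAlgebraic (hK : FunFld.IsFunctionField k K) {x : K} (hx : IsAlgebraic k x)
    (P : FunFld.Place k K) : P.ord x = 0 := by
  obtain ⟨c, rfl⟩ := hK.2 x hx
  rw [ord_def]
  by_cases hc : c = 0
  · subst hc; simp
  · rw [val_algebraMap_eq_one P.1 P.2.1 hc]; simp

theorem exists_single_of_deg_eq_one (hK : FunFld.IsFunctionField k K) {D : FunFld.Divisor k K}
    (hD : 0 ≤ D) (h : D.deg = 1) : ∃ P : FunFld.Place k K, D = Finsupp.single P 1 ∧ P.deg = 1 := by
  classical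
  have hpos : ∀ Q ∈ D.support, 1 ≤ D Q * (Q.deg : ℤ) := by
    intro Q hQ
    have h1 : D Q ≠ 0 := Finsupp.mem_support_iff.mp hQ
    have h2 : 0 < D Q := lt_of_le_of_ne (hD Q) (Ne.symm h1)
    have h3 : (0 : ℤ) < Q.deg := by exact_mod_cast place_deg_pos hK Q
    nlinarith
  rw [deg_eq_sum_support] at h
  have hne : D.support.Nonempty := by
    by_contra hemp
    rw [Finset.not_nonempty_iff_eq_empty] at hemp
    rw [hemp, Finset.sum_empty] at h
    exact zero_ne_one h
  obtain ⟨P, hP⟩ := hne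
  rw [← Finset.add_sum_erase _ _ hP] at h
  have hrest : 0 ≤ ∑ Q ∈ D.support.erase P, D Q * (Q.deg : ℤ) :=
    Finset.sum_nonneg fun Q hQ => le_trans zero_le_one (hpos Q (Finset.mem_of_mem_erase hQ))
  have hPt := hpos P hP
  have hPeq : D P * (P.deg : ℤ) = 1 := by omega
  have hrest0 : ∑ Q ∈ D.support.erase P, D Q * (Q.deg : ℤ) = 0 := by omega
  have hemp : D.support.erase P = ∅ := by
    by_contra hne
    obtain ⟨Q, hQ⟩ := Finset.nonempty_iff_ne_empty.mpr hne
    have := Finset.single_le_sum (f := fun Q => D Q * (Q.deg : ℤ))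
      (fun Q hQ => le_trans zero_le_one (hpos Q (Finset.mem_of_mem_erase hQ))) hQ
    have := hpos Q (Finset.mem_of_mem_erase hQ)
    omega
  have hDPpos : 0 < D P := lt_of_le_of_ne (hD P) (Ne.symm (Finsupp.mem_support_iff.mp hP))
  have hdeg1 : (1 : ℤ) ≤ P.deg := by exact_mod_cast place_deg_pos hK P
  have hDP : D P = 1 := by nlinarith
  refine ⟨P, ?_, ?_⟩
  · ext Q
    by_cases hQ : Q = P
    · subst hQ; simp [hDP]
    · rw [Finsupp.single_apply, if_neg (Ne.symm hQ)]
      by_contra hQ0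
      have : Q ∈ D.support.erase P := Finset.mem_erase.mpr ⟨hQ, Finsupp.mem_support_iff.mpr hQ0⟩
      rw [hemp] at this
      exact Finset.notMem_empty _ this
  · rw [hDP, one_mul] at hPeq
    exact_mod_cast hPeq

theorem adjoin_eq_top_of_simple_pole (hK : FunFld.IsFunctionField k K) {x : K}
    (P : FunFld.Place k K) (hP : P.deg = 1) (h1 : P.ord x = -1)
    (h2 : ∀ Q : FunFld.Place k K, Q ≠ P → 0 ≤ Q.ord x) : k⟮x⟯ = ⊤ := by
  classical
  have hx : Transcendental k x := by
    intro halg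
    rw [ord_eq_zero_of_isAlgebraic hK halg P] at h1
    omega
  have hB : poleDiv (k := k) x = Finsupp.single P 1 := by
    ext Q
    rw [poleDiv_apply hK, Finsupp.single_apply]
    by_cases hQ : Q = P
    · subst hQ; rw [if_pos rfl, h1]; rfl
    · rw [if_neg (Ne.symm hQ)]
      have := h2 Q hQ
      omega
  have hdeg := deg_poleDiv_eq hK hx
  rw [hB, deg_single, hP] at hdeg
  have h3 : ((Module.finrank k⟮x⟯ K : ℕ) : ℤ) = 1 := by rw [← hdeg]; simp
  have : Module.finrank k⟮x⟯ K = 1 := by exact_mod_cast h3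
  exact IntermediateField.finrank_eq_one_iff_eq_top.mp this

theorem exists_simple_pole_of_adjoin_eq_top (hK : FunFld.IsFunctionField k K) {x : K}
    (h : k⟮x⟯ = ⊤) : ∃ P : FunFld.Place k K, P.deg = 1 ∧ P.ord x = -1 ∧
      ∀ Q : FunFld.Place k K, Q ≠ P → 0 ≤ Q.ord x := by
  have hx := transcendental_of_adjoin_eq_top hK h
  have hdeg := deg_poleDiv_eq hK hx
  rw [finrank_eq_one_of_eq_top h] at hdeg
  obtain ⟨P, hP, hPdeg⟩ := exists_single_of_deg_eq_one hK (poleDiv_nonneg x) (by exact_mod_cast hdeg)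
  refine ⟨P, hPdeg, ?_, ?_⟩
  · have := congrArg (fun D => D P) hP
    simp only [poleDiv_apply hK, Finsupp.single_eq_same] at this
    omega
  · intro Q hQ
    have := congrArg (fun D => D Q) hP
    simp only [poleDiv_apply hK] at this
    rw [Finsupp.single_eq_of_ne hQ] at this
    omega

theorem genus_eq_zero_of_adjoin_eq_top (hK : FunFld.IsFunctionField k K) {x : K}
    (h : k⟮x⟯ = ⊤) : FunFld.genus k K = 0 := by
  have hx := transcendental_of_adjoin_eq_top hK h
  have hdeg := deg_poleDiv_eq hK hx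
  rw [finrank_eq_one_of_eq_top h] at hdeg
  exact genus_eq_zero_of_deg_poleDiv hK hx (by exact_mod_cast hdeg)

lemma val_le_exp_iff (P : FunFld.Place k K) {x : K} (hx : x ≠ 0) (m : ℤ) :
    P.1 x ≤ WithZero.exp m ↔ -m ≤ P.ord x := by
  rw [val_eq_exp_neg_ord P hx, WithZero.exp_le_exp]; omega

lemma exp_lt_val_iff (P : FunFld.Place k K) {x : K} (hx : x ≠ 0) (m : ℤ) :
    WithZero.exp m < P.1 x ↔ P.ord x < -m := by
  rw [val_eq_exp_neg_ord P hx, WithZero.exp_lt_exp]; omega

lemma val_le_one_iff (P : FunFld.Place k K) {x : K} (hx : x ≠ 0) :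
    P.1 x ≤ 1 ↔ 0 ≤ P.ord x := by
  have := val_le_exp_iff P hx 0
  rw [WithZero.exp_zero] at this
  rw [this]; omega

lemma one_lt_val_iff (P : FunFld.Place k K) {x : K} (hx : x ≠ 0) :
    1 < P.1 x ↔ P.ord x < 0 := by
  have := exp_lt_val_iff P hx 0
  rw [WithZero.exp_zero] at this
  rw [this]; omega

theorem eq_of_single_sub_single_eq_div (hK : FunFld.IsFunctionField k K)
    (hg : 0 < FunFld.genus k K) (P P' : FunFld.Place k K) (hP' : P'.deg = 1) (x : K)
    (h : Finsupp.single P 1 - Finsupp.single P' 1 = FunFld.div k x) : P = P' := by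
  classical
  by_contra hne
  have hord : ∀ Q, Q.ord x = (Finsupp.single P 1 - Finsupp.single P' 1 : FunFld.Divisor k K) Q := by
    intro Q; rw [h, div_apply hK]
  have h1 : P'.ord x = -1 := by
    rw [hord, Finsupp.sub_apply, Finsupp.single_eq_same, Finsupp.single_eq_of_ne (Ne.symm hne)]
    rfl
  have h2 : ∀ Q, Q ≠ P' → 0 ≤ Q.ord x := by
    intro Q hQ
    rw [hord, Finsupp.sub_apply, Finsupp.single_eq_of_ne hQ, sub_zero]
    by_cases hQP : Q = P
    · subst hQP; simp
    · rw [Finsupp.single_eq_of_ne hQP]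
  have := genus_eq_zero_of_adjoin_eq_top hK (adjoin_eq_top_of_simple_pole hK P' hP' h1 h2)
  omega

theorem exists_simple_pole_iff (hK : FunFld.IsFunctionField k K) :
    (∃ (x : K) (P : FunFld.Place k K), P.deg = 1 ∧ P.ord x = -1 ∧
        ∀ Q : FunFld.Place k K, Q ≠ P → 0 ≤ Q.ord x) ↔ ∃ x : K, k⟮x⟯ = ⊤ := by
  constructor
  · rintro ⟨x, P, hP, h1, h2⟩; exact ⟨x, adjoin_eq_top_of_simple_pole hK P hP h1 h2⟩
  · rintro ⟨x, hx⟩; exact ⟨x, exists_simple_pole_of_adjoin_eq_top hK hx⟩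

theorem genus_zero_and_deg_one_iff (hK : FunFld.IsFunctionField k K) :
    (FunFld.genus k K = 0 ∧ ∃ P : FunFld.Place k K, P.deg = 1) ↔ ∃ x : K, k⟮x⟯ = ⊤ := by
  classical
  constructor
  · rintro ⟨hg, P, hP⟩
    have hle := le_genus hK (Finsupp.single P 1)
    rw [hg, deg_single, hP] at hle
    have hell : 2 ≤ FunFld.ell (Finsupp.single P 1 : FunFld.Divisor k K) := by
      push_cast at hle; omega
    have hnot : ¬ (FunFld.L (Finsupp.single P 1 : FunFld.Divisor k K) ≤ 1) := by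
      intro hle1
      have := finiteDimensional_L hK (Finsupp.single P 1 : FunFld.Divisor k K)
      have hfd1 : FiniteDimensional k (1 : Submodule k K) := by
        rw [Submodule.one_eq_span]; infer_instance
      have h1 := Submodule.finrank_mono hle1
      rw [Submodule.one_eq_span, finrank_span_singleton one_ne_zero] at h1
      unfold FunFld.ell at hell
      omega
    obtain ⟨x, hxL, hx1⟩ := SetLike.not_le_iff_exists.mp hnot
    have htr : Transcendental k x := by
      intro halg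
      apply hx1
      obtain ⟨c, hc⟩ := hK.2 x halg
      rw [Submodule.mem_one]; exact ⟨c, hc⟩
    have hx0 : x ≠ 0 := fun h => htr (h ▸ isAlgebraic_zero)
    obtain ⟨Q, hQ⟩ := exists_place_one_lt_val hK htr
    have hQP : Q = P := by
      by_contra hne
      have := hxL Q
      rw [Finsupp.single_eq_of_ne hne, WithZero.exp_zero] at this
      exact absurd hQ (not_lt.mpr this)
    subst hQP
    refine ⟨x, adjoin_eq_top_of_simple_pole hK Q hP ?_ ?_⟩
    · have h1 := hxL Q
      rw [Finsupp.single_eq_same, val_le_exp_iff Q hx0] at h1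
      rw [one_lt_val_iff Q hx0] at hQ
      omega
    · intro R hR
      have := hxL R
      rw [Finsupp.single_eq_of_ne hR, WithZero.exp_zero, val_le_one_iff R hx0] at this
      exact this
  · rintro ⟨x, hx⟩
    obtain ⟨P, hP, -, -⟩ := exists_simple_pole_of_adjoin_eq_top hK hx
    exact ⟨genus_eq_zero_of_adjoin_eq_top hK hx, P, hP⟩

end GenusZero

section QtLemmas

variable {R V : Type*} [Field R] [AddCommGroup V] [Module R V]

/-- `B / (A ∩ B)`. -/
abbrev Qt (A B : Submodule R V) := ↥B ⧸ Submodule.comap B.subtype A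

theorem qt_subsingleton {A B : Submodule R V} (h : B ≤ A) : Subsingleton (Qt A B) := by
  constructor
  intro x y
  obtain ⟨a, rfl⟩ := Submodule.mkQ_surjective _ x
  obtain ⟨b, rfl⟩ := Submodule.mkQ_surjective _ y
  rw [Submodule.mkQ_apply, Submodule.mkQ_apply, Submodule.Quotient.eq]
  exact h (B.sub_mem a.2 b.2)

theorem le_of_finrank_qt_eq_zero {A B : Submodule R V} [FiniteDimensional R (Qt A B)]
    (h : Module.finrank R (Qt A B) = 0) : B ≤ A := by
  intro v hv
  have hs : Subsingleton (Qt A B) := Module.finrank_zero_iff.mp h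
  have : Submodule.mkQ (Submodule.comap B.subtype A) ⟨v, hv⟩ = 0 := Subsingleton.elim _ _
  rw [Submodule.mkQ_apply, Submodule.Quotient.mk_eq_zero] at this
  exact this

theorem qt_chain {A B C : Submodule R V} (hAB : A ≤ B) (hBC : B ≤ C)
    (h₁ : FiniteDimensional R (Qt A B)) (h₂ : FiniteDimensional R (Qt B C)) :
    FiniteDimensional R (Qt A C) ∧
      Module.finrank R (Qt A C) = Module.finrank R (Qt A B) + Module.finrank R (Qt B C) := by
  set NA := Submodule.comap C.subtype A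
  set NB := Submodule.comap C.subtype B
  have hN : NA ≤ NB := Submodule.comap_mono hAB
  let f : ↥B →ₗ[R] Qt A C := NA.mkQ ∘ₗ Submodule.inclusion hBC
  let g : Qt A C →ₗ[R] Qt B C := NA.liftQ NB.mkQ (by rw [Submodule.ker_mkQ]; exact hN)
  have hg : Function.Surjective g := by
    intro y
    obtain ⟨c, rfl⟩ := NB.mkQ_surjective y
    exact ⟨NA.mkQ c, rfl⟩
  have hkerf : LinearMap.ker f = Submodule.comap B.subtype A := by
    ext b
    simp only [f, LinearMap.mem_ker, LinearMap.coe_comp, Function.comp_apply, Submodule.mkQ_apply,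
      Submodule.Quotient.mk_eq_zero, Submodule.mem_comap, Submodule.subtype_apply,
      Submodule.coe_inclusion, NA]
  have hkerg : LinearMap.ker g = LinearMap.range f := by
    ext m
    obtain ⟨c, rfl⟩ := NA.mkQ_surjective m
    simp only [g, LinearMap.mem_ker, Submodule.liftQ_apply, Submodule.mkQ_apply,
      Submodule.Quotient.mk_eq_zero, LinearMap.mem_range, f, LinearMap.coe_comp,
      Function.comp_apply, NB, Submodule.mem_comap, Submodule.subtype_apply]
    constructor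
    · intro hc
      exact ⟨⟨c, hc⟩, rfl⟩
    · rintro ⟨b, hb⟩
      rw [Submodule.Quotient.eq] at hb
      have h1 : ((Submodule.inclusion hBC b - c : C) : V) ∈ A := hb
      have h2 : ((Submodule.inclusion hBC b - c : C) : V) = (b : V) - c := rfl
      rw [h2] at h1
      have h3 := B.sub_mem b.2 (hAB h1)
      simpa using h3
  have hr := LinearMap.rank_range_add_rank_ker g
  rw [LinearMap.range_eq_top.mpr hg, rank_top, hkerg] at hr
  have hrf : Module.rank R (LinearMap.range f) = Module.rank R (Qt A B) := by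
    rw [← (f.quotKerEquivRange).rank_eq, hkerf]
  rw [hrf, ← Module.finrank_eq_rank, ← Module.finrank_eq_rank] at hr
  have hfd : FiniteDimensional R (Qt A C) := by
    apply Module.rank_lt_aleph0_iff.mp
    rw [← hr]
    exact Cardinal.add_lt_aleph0 (Cardinal.natCast_lt_aleph0) (Cardinal.natCast_lt_aleph0)
  refine ⟨hfd, ?_⟩
  have : (Module.finrank R (Qt A C) : Cardinal) = (Module.finrank R (Qt A B) + Module.finrank R (Qt B C) : ℕ) := by
    rw [Module.finrank_eq_rank, ← hr]; push_cast; ring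
  exact_mod_cast this

end QtLemmas

section AdeleSpaces

theorem AD_mono {D₁ D₂ : FunFld.Divisor k K} (h : D₁ ≤ D₂) : FunFld.AD D₁ ≤ FunFld.AD D₂ :=
  fun _ ha P => (ha P).trans (WithZero.exp_le_exp.mpr (h P))

theorem mem_AD_iff {D : FunFld.Divisor k K} {a : FunFld.Place k K → K} :
    a ∈ FunFld.AD D ↔ ∀ P : FunFld.Place k K, P.1 (a P) ≤ WithZero.exp (D P) := Iff.rfl

theorem AD_step (hK : FunFld.IsFunctionField k K) (D : FunFld.Divisor k K)
    (P : FunFld.Place k K) :
    FiniteDimensional k (Qt (FunFld.AD D) (FunFld.AD (D + Finsupp.single P 1))) ∧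
      Module.finrank k (Qt (FunFld.AD D) (FunFld.AD (D + Finsupp.single P 1))) = P.deg := by
  classical
  obtain ⟨t, ht⟩ := place_exists_uniformizer P
  have ht0 : t ≠ 0 := by
    rintro rfl; rw [Valuation.map_zero] at ht; exact WithZero.exp_ne_zero ht.symm
  set D' := D + Finsupp.single P 1 with hD'
  set n : ℤ := D P + 1 with hn
  have hD'P : D' P = n := by simp [D', n]
  have hD'Q : ∀ Q, Q ≠ P → D' Q = D Q := fun Q hQ => by
    simp [D', Finsupp.single_eq_of_ne hQ]
  have hvt : P.1 (t ^ n) = WithZero.exp (-n) := by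
    rw [map_zpow₀, ht, ← WithZero.exp_zsmul]; simp
  have hmem : ∀ a : FunFld.AD D', t ^ n * (a : FunFld.Place k K → K) P ∈ P.O := by
    intro a
    change P.1 (t ^ n * (a : FunFld.Place k K → K) P) ≤ 1
    rw [Valuation.map_mul, hvt]
    have ha : P.1 ((a : FunFld.Place k K → K) P) ≤ WithZero.exp n := by
      rw [← hD'P]; exact a.2 P
    calc WithZero.exp (-n) * P.1 ((a : FunFld.Place k K → K) P) ≤
          WithZero.exp (-n) * WithZero.exp n := by gcongr
      _ = 1 := by rw [← WithZero.exp_add]; simp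
  let φ : FunFld.AD D' →ₗ[k] IsLocalRing.ResidueField P.O :=
    { toFun := fun a => IsLocalRing.residue P.O ⟨t ^ n * (a : FunFld.Place k K → K) P, hmem a⟩
      map_add' := fun a₁ a₂ => by
        rw [← map_add]; congr 1; apply Subtype.ext
        simp [mul_add]
      map_smul' := fun c a => by
        rw [RingHom.id_apply]
        change _ = IsLocalRing.residue P.O
          (c • (⟨t ^ n * (a : FunFld.Place k K → K) P, hmem a⟩ : P.O))
        congr 1; apply Subtype.ext
        change t ^ n * ((c • (a : FunFld.Place k K → K)) P) =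
          (algebraMap k K c) * (t ^ n * (a : FunFld.Place k K → K) P)
        rw [Pi.smul_apply, Algebra.smul_def]; ring }
  have hsurj : Function.Surjective φ := by
    intro r
    obtain ⟨w, rfl⟩ := IsLocalRing.residue_surjective r
    let a : FunFld.Place k K → K := Pi.single P ((t ^ n)⁻¹ * (w : K))
    have ha : a ∈ FunFld.AD D' := by
      intro Q
      by_cases hQ : Q = P
      · subst hQ
        simp only [a, Pi.single_eq_same]
        rw [Valuation.map_mul, Valuation.map_inv, hvt, hD'P]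
        have hw : Q.1 (w : K) ≤ 1 := w.2
        calc (WithZero.exp (-n))⁻¹ * Q.1 (w : K) ≤ (WithZero.exp (-n))⁻¹ * 1 := by gcongr
          _ = WithZero.exp n := by rw [mul_one, ← WithZero.exp_neg, neg_neg]
      · simp only [a, Pi.single_eq_of_ne hQ, Valuation.map_zero]
        exact zero_le
    refine ⟨⟨a, ha⟩, ?_⟩
    change IsLocalRing.residue P.O ⟨t ^ n * a P, _⟩ = IsLocalRing.residue P.O w
    congr 1
    apply Subtype.ext
    change t ^ n * a P = (w : K)
    simp only [a, Pi.single_eq_same]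
    rw [← mul_assoc, mul_inv_cancel₀ (zpow_ne_zero n ht0), one_mul]
  have hker : LinearMap.ker φ = Submodule.comap (FunFld.AD D').subtype (FunFld.AD D) := by
    ext a
    rw [LinearMap.mem_ker, Submodule.mem_comap, Submodule.subtype_apply]
    change IsLocalRing.residue P.O _ = 0 ↔ _
    rw [IsLocalRing.residue_eq_zero_iff]
    constructor
    · intro hm Q
      by_cases hQ : Q = P
      · subst hQ
        have := place_val_lt_one_of_mem_maximalIdeal Q _ hm
        change Q.1 (t ^ n * (a : FunFld.Place k K → K) Q) < 1 at this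
        rw [Valuation.map_mul, hvt] at this
        have h2 : Q.1 ((a : FunFld.Place k K → K) Q) < WithZero.exp (D Q + 1) := by
          have := mul_lt_mul_of_pos_left this (zero_lt_iff.mpr (WithZero.exp_ne_zero (a := n)))
          rwa [← mul_assoc, ← WithZero.exp_add, add_neg_cancel, WithZero.exp_zero, one_mul,
            mul_one] at this
        exact lt_exp_add_one_iff.mp h2
      · have := a.2 Q
        rwa [hD'Q Q hQ] at this
    · intro ha
      apply place_mem_maximalIdeal_of_lt_one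
      change P.1 (t ^ n * (a : FunFld.Place k K → K) P) < 1
      rw [Valuation.map_mul, hvt]
      have h2 : P.1 ((a : FunFld.Place k K → K) P) < WithZero.exp n :=
        lt_exp_add_one_iff.mpr (ha P)
      calc WithZero.exp (-n) * P.1 ((a : FunFld.Place k K → K) P) <
            WithZero.exp (-n) * WithZero.exp n :=
            mul_lt_mul_of_pos_left h2 (zero_lt_iff.mpr WithZero.exp_ne_zero)
        _ = 1 := by rw [← WithZero.exp_add]; simp
  let e := (Submodule.quotEquivOfEq _ _ hker).symm.trans (φ.quotKerEquivOfSurjective hsurj)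
  have := finiteDimensional_residueField hK P
  exact ⟨LinearEquiv.finiteDimensional e.symm, e.finrank_eq⟩

theorem AD_step_nat (hK : FunFld.IsFunctionField k K) (P : FunFld.Place k K) (n : ℕ) :
    ∀ D : FunFld.Divisor k K,
    FiniteDimensional k (Qt (FunFld.AD D) (FunFld.AD (D + Finsupp.single P (n : ℤ)))) ∧
      (Module.finrank k (Qt (FunFld.AD D) (FunFld.AD (D + Finsupp.single P (n : ℤ)))) : ℤ) =
        n * P.deg := by
  induction n with
  | zero =>
    intro D
    rw [Nat.cast_zero, Finsupp.single_zero, add_zero]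
    have := qt_subsingleton (le_refl (FunFld.AD D))
    exact ⟨inferInstance, by rw [Module.finrank_zero_of_subsingleton]; simp⟩
  | succ n ih =>
    intro D
    obtain ⟨h1, h2⟩ := ih D
    obtain ⟨h3, h4⟩ := AD_step hK (D + Finsupp.single P (n : ℤ)) P
    have e : D + Finsupp.single P ((n + 1 : ℕ) : ℤ) =
        (D + Finsupp.single P (n : ℤ)) + Finsupp.single P 1 := by
      rw [add_assoc, ← Finsupp.single_add]; push_cast; rfl
    rw [e]
    have hle1 : D ≤ D + Finsupp.single P (n : ℤ) :=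
      le_add_of_nonneg_right (Finsupp.single_nonneg.mpr (by positivity))
    have hle2 : D + Finsupp.single P (n : ℤ) ≤ D + Finsupp.single P (n : ℤ) + Finsupp.single P 1 :=
      le_add_of_nonneg_right (Finsupp.single_nonneg.mpr (by positivity))
    obtain ⟨h5, h6⟩ := qt_chain (AD_mono hle1) (AD_mono hle2) h1 h3
    refine ⟨h5, ?_⟩
    rw [h6]; push_cast; rw [h2, h4]; ring

theorem AD_add_nonneg (hK : FunFld.IsFunctionField k K) (E : FunFld.Divisor k K) (hE : 0 ≤ E) :
    ∀ D : FunFld.Divisor k K,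
    FiniteDimensional k (Qt (FunFld.AD D) (FunFld.AD (D + E))) ∧
      (Module.finrank k (Qt (FunFld.AD D) (FunFld.AD (D + E))) : ℤ) = E.deg := by
  classical
  induction E using Finsupp.induction with
  | zero =>
    intro D
    rw [add_zero]
    have := qt_subsingleton (le_refl (FunFld.AD D))
    exact ⟨inferInstance, by rw [Module.finrank_zero_of_subsingleton]; simp [FunFld.Divisor.deg]⟩
  | single_add a b f ha hb ih =>
    intro D
    have hfa : f a = 0 := Finsupp.notMem_support_iff.mp ha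
    have hb0 : 0 ≤ b := by
      have := hE a
      simpa [hfa] using this
    have hf0 : 0 ≤ f := by
      intro Q
      by_cases hQ : Q = a
      · subst hQ; simp [hfa]
      · have := hE Q
        simpa [Finsupp.single_apply, Ne.symm hQ] using this
    obtain ⟨h1, h2⟩ := ih hf0 D
    obtain ⟨h3, h4⟩ := AD_step_nat hK a b.toNat (D + f)
    have hbn : ((b.toNat : ℕ) : ℤ) = b := Int.toNat_of_nonneg hb0
    rw [hbn] at h3 h4
    have e : D + (Finsupp.single a b + f) = (D + f) + Finsupp.single a b := by abel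
    rw [e]
    have hle1 : D ≤ D + f := le_add_of_nonneg_right hf0
    have hle2 : D + f ≤ D + f + Finsupp.single a b :=
      le_add_of_nonneg_right (Finsupp.single_nonneg.mpr hb0)
    obtain ⟨h5, h6⟩ := qt_chain (AD_mono hle1) (AD_mono hle2) h1 h3
    refine ⟨h5, ?_⟩
    rw [h6, deg_add, deg_single]; push_cast; rw [h2, h4]; ring

theorem AD_quot (hK : FunFld.IsFunctionField k K) (D₁ D₂ : FunFld.Divisor k K) (h : D₁ ≤ D₂) :
    FunFld.AD D₁ ≤ FunFld.AD D₂ ∧ FiniteDimensional k (Qt (FunFld.AD D₁) (FunFld.AD D₂)) ∧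
      (Module.finrank k (Qt (FunFld.AD D₁) (FunFld.AD D₂)) : ℤ) = D₂.deg - D₁.deg := by
  obtain ⟨E, hE, rfl⟩ : ∃ E, 0 ≤ E ∧ D₂ = D₁ + E := ⟨D₂ - D₁, sub_nonneg.mpr h, by abel⟩
  obtain ⟨h1, h2⟩ := AD_add_nonneg hK E hE D₁
  exact ⟨AD_mono h, h1, by rw [h2, deg_add]; ring⟩

/-- `A(D) + K` inside the space of all functions on places. -/
abbrev XD (D : FunFld.Divisor k K) : Submodule k (FunFld.Place k K → K) :=
  FunFld.AD D ⊔ LinearMap.range (FunFld.diag k K)

lemma diag_apply (x : K) (P : FunFld.Place k K) : FunFld.diag k K x P = x := rfl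

lemma diag_mem_AD_iff {D : FunFld.Divisor k K} {x : K} :
    FunFld.diag k K x ∈ FunFld.AD D ↔ x ∈ FunFld.L D := Iff.rfl

theorem XD_quot (hK : FunFld.IsFunctionField k K) (D₁ D₂ : FunFld.Divisor k K) (h : D₁ ≤ D₂) :
    FiniteDimensional k (Qt (XD D₁) (XD D₂)) ∧
    (Module.finrank k (Qt (XD D₁) (XD D₂)) : ℤ) =
      (D₂.deg + 1 - FunFld.ell D₂) - (D₁.deg + 1 - FunFld.ell D₁) := by
  obtain ⟨hle, hfdM, hrkM⟩ := AD_quot hK D₁ D₂ h
  set N₁ := Submodule.comap (FunFld.AD D₂).subtype (FunFld.AD D₁) with hN₁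
  set Y₁ := Submodule.comap (XD D₂).subtype (XD D₁) with hY₁
  let ψ : FunFld.AD D₂ →ₗ[k] Qt (XD D₁) (XD D₂) :=
    Y₁.mkQ ∘ₗ Submodule.inclusion (le_sup_left : FunFld.AD D₂ ≤ XD D₂)
  have hψ : N₁ ≤ LinearMap.ker ψ := by
    intro a ha
    rw [LinearMap.mem_ker]
    simp only [ψ, LinearMap.coe_comp, Function.comp_apply, Submodule.mkQ_apply,
      Submodule.Quotient.mk_eq_zero, Y₁, Submodule.mem_comap, Submodule.subtype_apply,
      Submodule.coe_inclusion]
    exact (le_sup_left : FunFld.AD D₁ ≤ XD D₁) ha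
  let Ψ : Qt (FunFld.AD D₁) (FunFld.AD D₂) →ₗ[k] Qt (XD D₁) (XD D₂) := N₁.liftQ ψ hψ
  have hΨ : Function.Surjective Ψ := by
    intro q
    obtain ⟨y, rfl⟩ := Y₁.mkQ_surjective q
    obtain ⟨a, ha, z, hz, hy⟩ := Submodule.mem_sup.mp y.2
    refine ⟨N₁.mkQ ⟨a, ha⟩, ?_⟩
    simp only [Ψ, Submodule.mkQ_apply, Submodule.liftQ_apply, ψ, LinearMap.coe_comp,
      Function.comp_apply]
    rw [Submodule.Quotient.eq]
    show ((Submodule.inclusion (le_sup_left : FunFld.AD D₂ ≤ XD D₂) ⟨a, ha⟩ - y : XD D₂) :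
      FunFld.Place k K → K) ∈ XD D₁
    have : ((Submodule.inclusion (le_sup_left : FunFld.AD D₂ ≤ XD D₂) ⟨a, ha⟩ - y : XD D₂) :
        FunFld.Place k K → K) = -z := by
      rw [Submodule.coe_sub, Submodule.coe_inclusion, ← hy]; abel
    rw [this]
    exact neg_mem ((le_sup_right : LinearMap.range (FunFld.diag k K) ≤ XD D₁) hz)
  let δ₂ : FunFld.L D₂ →ₗ[k] FunFld.AD D₂ :=
    ((FunFld.diag k K).comp (FunFld.L D₂).subtype).codRestrict (FunFld.AD D₂) (fun x => x.2)
  let θ : FunFld.L D₂ →ₗ[k] Qt (FunFld.AD D₁) (FunFld.AD D₂) := N₁.mkQ ∘ₗ δ₂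
  have hθker : LinearMap.ker θ = Submodule.comap (FunFld.L D₂).subtype (FunFld.L D₁) := by
    ext x
    simp only [θ, LinearMap.mem_ker, LinearMap.coe_comp, Function.comp_apply, Submodule.mkQ_apply,
      Submodule.Quotient.mk_eq_zero, N₁, Submodule.mem_comap, Submodule.subtype_apply]
    exact Iff.rfl
  have hθrange : LinearMap.range θ = LinearMap.ker Ψ := by
    apply le_antisymm
    · rintro _ ⟨x, rfl⟩
      rw [LinearMap.mem_ker]
      simp only [θ, Ψ, LinearMap.coe_comp, Function.comp_apply, Submodule.mkQ_apply,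
        Submodule.liftQ_apply, ψ, Submodule.Quotient.mk_eq_zero, Y₁, Submodule.mem_comap,
        Submodule.subtype_apply, Submodule.coe_inclusion]
      exact (le_sup_right : LinearMap.range (FunFld.diag k K) ≤ XD D₁) ⟨x, rfl⟩
    · intro m hm
      obtain ⟨a, rfl⟩ := N₁.mkQ_surjective m
      rw [LinearMap.mem_ker] at hm
      simp only [Ψ, Submodule.mkQ_apply, Submodule.liftQ_apply, ψ, LinearMap.coe_comp,
        Function.comp_apply, Submodule.Quotient.mk_eq_zero, Y₁, Submodule.mem_comap,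
        Submodule.subtype_apply, Submodule.coe_inclusion] at hm
      obtain ⟨a₁, ha₁, z, ⟨x, rfl⟩, hsum⟩ := Submodule.mem_sup.mp hm
      have hdx : FunFld.diag k K x = (a : FunFld.Place k K → K) - a₁ := by
        rw [← hsum]; abel
      have hx : x ∈ FunFld.L D₂ := by
        show FunFld.diag k K x ∈ FunFld.AD D₂
        rw [hdx]; exact (FunFld.AD D₂).sub_mem a.2 (hle ha₁)
      refine ⟨⟨x, hx⟩, ?_⟩
      simp only [θ, LinearMap.coe_comp, Function.comp_apply, Submodule.mkQ_apply]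
      rw [Submodule.Quotient.eq]
      show ((δ₂ ⟨x, hx⟩ - a : FunFld.AD D₂) : FunFld.Place k K → K) ∈ FunFld.AD D₁
      have : ((δ₂ ⟨x, hx⟩ - a : FunFld.AD D₂) : FunFld.Place k K → K) = -a₁ := by
        rw [Submodule.coe_sub]
        change FunFld.diag k K x - (a : FunFld.Place k K → K) = -a₁
        rw [hdx]; abel
      rw [this]
      exact neg_mem ha₁
  have hfdQ : FiniteDimensional k (Qt (XD D₁) (XD D₂)) := Module.Finite.of_surjective Ψ hΨ
  refine ⟨hfdQ, ?_⟩
  have r1 := LinearMap.finrank_range_add_finrank_ker Ψ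
  rw [LinearMap.range_eq_top.mpr hΨ, finrank_top, ← hθrange] at r1
  have hfdL := finiteDimensional_L hK D₂
  have r2 := LinearMap.finrank_range_add_finrank_ker θ
  rw [hθker] at r2
  have r3 : Module.finrank k (Submodule.comap (FunFld.L D₂).subtype (FunFld.L D₁)) =
      FunFld.ell D₁ := (Submodule.comapSubtypeEquivOfLe (L_mono h)).finrank_eq
  rw [r3] at r2
  have r2' : (Module.finrank k (LinearMap.range θ) : ℤ) + FunFld.ell D₁ = FunFld.ell D₂ := by
    unfold FunFld.ell; exact_mod_cast r2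
  have r1' : (Module.finrank k (Qt (XD D₁) (XD D₂)) : ℤ) + Module.finrank k (LinearMap.range θ) =
      Module.finrank k (Qt (FunFld.AD D₁) (FunFld.AD D₂)) := by exact_mod_cast r1
  linarith

theorem AD_le_adele (D : FunFld.Divisor k K) : FunFld.AD D ≤ FunFld.adele k K := by
  intro a ha
  show ∀ᶠ P : FunFld.Place k K in Filter.cofinite, P.1 (a P) ≤ 1
  rw [Filter.eventually_cofinite]
  refine D.support.finite_toSet.subset ?_
  intro P hP
  simp only [Set.mem_ofPred_eq] at hP
  simp only [Finset.mem_coe, Finsupp.mem_support_iff]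
  intro h0
  apply hP
  have := ha P
  rwa [h0, WithZero.exp_zero] at this

theorem range_diag_le_adele (hK : FunFld.IsFunctionField k K) :
    LinearMap.range (FunFld.diag k K) ≤ FunFld.adele k K := by
  rintro _ ⟨x, rfl⟩
  show ∀ᶠ P : FunFld.Place k K in Filter.cofinite, P.1 (FunFld.diag k K x P) ≤ 1
  rw [Filter.eventually_cofinite]
  refine (finite_support_ord hK x).subset ?_
  intro P hP
  simp only [Set.mem_ofPred_eq, diag_apply, not_le] at hP
  simp only [Function.mem_support]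
  have hx0 : x ≠ 0 := by rintro rfl; rw [Valuation.map_zero] at hP; exact not_lt.mpr zero_le hP
  rw [one_lt_val_iff P hx0] at hP
  omega

theorem XD_le_adele (hK : FunFld.IsFunctionField k K) (D : FunFld.Divisor k K) :
    XD D ≤ FunFld.adele k K :=
  sup_le (AD_le_adele D) (range_diag_le_adele hK)

theorem exists_AD_of_mem_adele {α : FunFld.Place k K → K} (hα : α ∈ FunFld.adele k K)
    (D : FunFld.Divisor k K) : ∃ D' : FunFld.Divisor k K, D ≤ D' ∧ α ∈ FunFld.AD D' := by
  classical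
  have hS : {P : FunFld.Place k K | ¬ P.1 (α P) ≤ 1}.Finite := Filter.eventually_cofinite.mp hα
  let f : FunFld.Place k K → ℤ := fun P => if P.1 (α P) ≤ 1 then 0 else WithZero.log (P.1 (α P))
  have hf : (Function.support f).Finite := by
    refine hS.subset ?_
    intro P hP
    simp only [Function.mem_support, f] at hP
    simp only [Set.mem_ofPred_eq]
    intro h; rw [if_pos h] at hP; exact hP rfl
  let E : FunFld.Divisor k K := Finsupp.ofSupportFinite f hf
  refine ⟨D ⊔ E, le_sup_left, ?_⟩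
  intro P
  have hE : E P = f P := by simp [E, Finsupp.ofSupportFinite_coe]
  rw [Finsupp.sup_apply]
  by_cases h1 : P.1 (α P) ≤ 1
  · calc P.1 (α P) ≤ 1 := h1
      _ = WithZero.exp (E P) := by rw [hE]; simp [f, h1]
      _ ≤ WithZero.exp (D P ⊔ E P) := WithZero.exp_le_exp.mpr le_sup_right
  · have h0 : P.1 (α P) ≠ 0 := by
      intro h; rw [h] at h1; exact h1 zero_le
    calc P.1 (α P) = WithZero.exp (E P) := by rw [hE]; simp [f, h1, WithZero.exp_log h0]
      _ ≤ WithZero.exp (D P ⊔ E P) := WithZero.exp_le_exp.mpr le_sup_right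

lemma exists_place (hK : FunFld.IsFunctionField k K) : Nonempty (FunFld.Place k K) := by
  obtain ⟨x, hx⟩ := exists_transcendental hK
  obtain ⟨P, -⟩ := exists_place_one_lt_val hK hx
  exact ⟨P⟩

lemma deg_mono {D₁ D₂ : FunFld.Divisor k K} (h : D₁ ≤ D₂) : D₁.deg ≤ D₂.deg := by
  have := deg_nonneg (sub_nonneg.mpr h)
  rw [deg_sub] at this
  omega

theorem exists_ge_deg (hK : FunFld.IsFunctionField k K) (D : FunFld.Divisor k K) (N : ℤ) :
    ∃ D' : FunFld.Divisor k K, D ≤ D' ∧ N ≤ D'.deg := by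
  obtain ⟨P⟩ := exists_place hK
  refine ⟨D + Finsupp.single P ((N - D.deg).toNat : ℤ),
    le_add_of_nonneg_right (Finsupp.single_nonneg.mpr (by positivity)), ?_⟩
  rw [deg_add, deg_single]
  have h1 : (1 : ℤ) ≤ P.deg := by exact_mod_cast place_deg_pos hK P
  have h2 := Int.self_le_toNat (N - D.deg)
  have h3 : (0 : ℤ) ≤ ((N - D.deg).toNat : ℤ) := by positivity
  nlinarith

theorem adele_le_XD (hK : FunFld.IsFunctionField k K) :
    ∃ N : ℤ, ∀ D : FunFld.Divisor k K, N ≤ D.deg → FunFld.adele k K ≤ XD D := by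
  obtain ⟨N, hN⟩ := (riemann hK).2
  refine ⟨N, fun D hD α hα => ?_⟩
  obtain ⟨D', hDD', hα'⟩ := exists_AD_of_mem_adele hα D
  obtain ⟨hfd, hrk⟩ := XD_quot hK D D' hDD'
  have h1 := hN D hD
  have h2 := hN D' (hD.trans (deg_mono hDD'))
  have h0 : Module.finrank k (Qt (XD D) (XD D')) = 0 := by omega
  exact le_of_finrank_qt_eq_zero h0 ((le_sup_left : FunFld.AD D' ≤ XD D') hα')

theorem qt_congr_right {R V : Type*} [Field R] [AddCommGroup V] [Module R V]
    {A B B' : Submodule R V} (h : B = B') (hfd : FiniteDimensional R (Qt A B')) :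
    FiniteDimensional R (Qt A B) ∧ Module.finrank R (Qt A B) = Module.finrank R (Qt A B') := by
  subst h; exact ⟨hfd, rfl⟩

theorem adele_quot (hK : FunFld.IsFunctionField k K) (D : FunFld.Divisor k K) :
    FiniteDimensional k (↥(FunFld.adele k K) ⧸ FunFld.ADK D) ∧
    (Module.finrank k (↥(FunFld.adele k K) ⧸ FunFld.ADK D) : ℤ) =
      (FunFld.genus k K : ℤ) - (D.deg + 1 - FunFld.ell D) := by
  obtain ⟨N, hN⟩ := (riemann hK).2
  obtain ⟨N', hN'⟩ := adele_le_XD hK
  obtain ⟨D', hDD', hdeg⟩ := exists_ge_deg hK D (max N N')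
  have heq : FunFld.adele k K = XD D' :=
    le_antisymm (hN' D' ((le_max_right _ _).trans hdeg)) (XD_le_adele hK D')
  obtain ⟨hfd, hrk⟩ := XD_quot hK D D' hDD'
  have hADK : FunFld.ADK D = Submodule.comap (FunFld.adele k K).subtype (XD D) := rfl
  rw [hADK]
  obtain ⟨h1, h2⟩ := qt_congr_right (A := XD D) heq hfd
  refine ⟨h1, ?_⟩
  have h3 := hN D' ((le_max_left _ _).trans hdeg)
  change (Module.finrank k (Qt (XD D) (FunFld.adele k K)) : ℤ) = _
  rw [h2, hrk, h3]

theorem WD_finrank (hK : FunFld.IsFunctionField k K) (D : FunFld.Divisor k K) :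
    FiniteDimensional k (FunFld.WD D) ∧
    (Module.finrank k (FunFld.WD D) : ℤ) = (FunFld.genus k K : ℤ) - (D.deg + 1 - FunFld.ell D) := by
  obtain ⟨hfd, hrk⟩ := adele_quot hK D
  let e := Submodule.dualQuotEquivDualAnnihilator (FunFld.ADK D)
  have hWD : FunFld.WD D = (FunFld.ADK D).dualAnnihilator := rfl
  rw [hWD]
  refine ⟨LinearEquiv.finiteDimensional e, ?_⟩
  rw [← e.finrank_eq, Subspace.dual_finrank_eq, hrk]

theorem exists_ne_zero_mem_WD_of_lt (hK : FunFld.IsFunctionField k K) (D : FunFld.Divisor k K)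
    (h : D.deg + 1 - FunFld.ell D < FunFld.genus k K) :
    ∃ ω : Module.Dual k (FunFld.adele k K), ω ≠ 0 ∧ ω ∈ FunFld.WD D := by
  obtain ⟨hfd, hrk⟩ := WD_finrank hK D
  have hne : FunFld.WD D ≠ ⊥ := by
    intro hbot
    rw [hbot, finrank_bot] at hrk
    omega
  obtain ⟨ω, hω, h0⟩ := Submodule.exists_mem_ne_zero_of_ne_bot hne
  exact ⟨ω, h0, hω⟩

theorem exists_special (hK : FunFld.IsFunctionField k K) (D : FunFld.Divisor k K) (hD : 0 ≤ D)
    (hdeg : D.deg < FunFld.genus k K) :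
    ∃ ω : Module.Dual k (FunFld.adele k K), ω ≠ 0 ∧ ω ∈ FunFld.WD D := by
  apply exists_ne_zero_mem_WD_of_lt hK D
  have hfd := finiteDimensional_L hK D
  have h1 : (1 : K) ∈ FunFld.L D := one_mem_L hD
  have hne : FunFld.L D ≠ ⊥ := by
    intro hbot
    rw [hbot, Submodule.mem_bot] at h1
    exact one_ne_zero h1
  have hpos : 0 < FunFld.ell D := by
    unfold FunFld.ell
    rw [Nat.pos_iff_ne_zero]
    intro h0
    exact hne (Submodule.finrank_eq_zero.mp h0)
  omega

end AdeleSpaces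

section Weil

theorem mem_L_iff_div (hK : FunFld.IsFunctionField k K) (D : FunFld.Divisor k K) {x : K}
    (hx : x ≠ 0) : x ∈ FunFld.L D ↔ 0 ≤ D + FunFld.div k x := by
  rw [mem_L_iff]
  refine forall_congr' fun P => ?_
  rw [Finsupp.coe_zero, Pi.zero_apply, Finsupp.add_apply, div_apply hK, val_le_exp_iff P hx]
  omega

lemma diag_mem_adele (hK : FunFld.IsFunctionField k K) (x : K) :
    FunFld.diag k K x ∈ FunFld.adele k K := range_diag_le_adele hK ⟨x, rfl⟩

theorem mem_WD_iff (hK : FunFld.IsFunctionField k K) {D : FunFld.Divisor k K}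
    {ω : Module.Dual k (FunFld.adele k K)} :
    ω ∈ FunFld.WD D ↔ (∀ (a : FunFld.Place k K → K) (ha : a ∈ FunFld.AD D),
        ω ⟨a, AD_le_adele D ha⟩ = 0) ∧
      (∀ x : K, ω ⟨FunFld.diag k K x, diag_mem_adele hK x⟩ = 0) := by
  unfold FunFld.WD
  rw [Submodule.mem_dualAnnihilator]
  constructor
  · intro h
    refine ⟨fun a ha => h _ ?_, fun x => h _ ?_⟩
    · exact (le_sup_left : FunFld.AD D ≤ XD D) ha
    · exact (le_sup_right : LinearMap.range (FunFld.diag k K) ≤ XD D) ⟨x, rfl⟩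
  · rintro ⟨h1, h2⟩ v hv
    obtain ⟨a, ha, z, ⟨x, rfl⟩, hsum⟩ := Submodule.mem_sup.mp hv
    have : v = ⟨a, AD_le_adele D ha⟩ + ⟨FunFld.diag k K x, diag_mem_adele hK x⟩ :=
      Subtype.ext hsum.symm
    rw [this, map_add, h1 a ha, h2 x, add_zero]

theorem WD_anti (hK : FunFld.IsFunctionField k K) {E E' : FunFld.Divisor k K} (h : E ≤ E') :
    FunFld.WD E' ≤ FunFld.WD E := by
  intro ω hω
  rw [mem_WD_iff hK] at hω ⊢
  exact ⟨fun a ha => hω.1 a (AD_mono h ha), hω.2⟩

theorem mem_WD_sup (hK : FunFld.IsFunctionField k K) {E₁ E₂ : FunFld.Divisor k K}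
    {ω : Module.Dual k (FunFld.adele k K)} (h₁ : ω ∈ FunFld.WD E₁) (h₂ : ω ∈ FunFld.WD E₂) :
    ω ∈ FunFld.WD (E₁ ⊔ E₂) := by
  classical
  rw [mem_WD_iff hK] at h₁ h₂ ⊢
  refine ⟨fun a ha => ?_, h₁.2⟩
  let a₁ : FunFld.Place k K → K := fun P => if E₂ P ≤ E₁ P then a P else 0
  let a₂ : FunFld.Place k K → K := fun P => if E₂ P ≤ E₁ P then 0 else a P
  have ha₁ : a₁ ∈ FunFld.AD E₁ := by
    intro P
    by_cases hP : E₂ P ≤ E₁ P
    · simp only [a₁, if_pos hP]
      have := ha P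
      rwa [Finsupp.sup_apply, sup_eq_left.mpr hP] at this
    · simp only [a₁, if_neg hP, Valuation.map_zero]; exact zero_le
  have ha₂ : a₂ ∈ FunFld.AD E₂ := by
    intro P
    by_cases hP : E₂ P ≤ E₁ P
    · simp only [a₂, if_pos hP, Valuation.map_zero]; exact zero_le
    · simp only [a₂, if_neg hP]
      have := ha P
      rwa [Finsupp.sup_apply, sup_eq_right.mpr (le_of_lt (not_le.mp hP))] at this
  have hsum : (⟨a, AD_le_adele _ ha⟩ : FunFld.adele k K) =
      ⟨a₁, AD_le_adele _ ha₁⟩ + ⟨a₂, AD_le_adele _ ha₂⟩ := by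
    apply Subtype.ext
    funext P
    change a P = a₁ P + a₂ P
    by_cases hP : E₂ P ≤ E₁ P
    · simp [a₁, a₂, hP]
    · simp [a₁, a₂, hP]
  rw [hsum, map_add, h₁.1 a₁ ha₁, h₂.1 a₂ ha₂, add_zero]

theorem eq_zero_of_nonneg_of_deg_eq_zero (hK : FunFld.IsFunctionField k K)
    {D : FunFld.Divisor k K} (hD : 0 ≤ D) (h : D.deg = 0) : D = 0 := by
  by_contra hne
  obtain ⟨P, hP⟩ : D.support.Nonempty := Finsupp.support_nonempty_iff.mpr hne
  rw [deg_eq_sum_support] at h
  have hterm : ∀ Q ∈ D.support, 0 ≤ D Q * (Q.deg : ℤ) := fun Q _ =>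
    mul_nonneg (hD Q) (by positivity)
  have h1 := Finset.single_le_sum hterm hP
  have h2 : 0 < D P := lt_of_le_of_ne (hD P) (Ne.symm (Finsupp.mem_support_iff.mp hP))
  have h3 : (0 : ℤ) < P.deg := by exact_mod_cast place_deg_pos hK P
  have h4 : 0 < D P * (P.deg : ℤ) := mul_pos h2 h3
  omega

theorem exists_deg_bound_WD (hK : FunFld.IsFunctionField k K) :
    ∃ N : ℤ, ∀ (E : FunFld.Divisor k K) (ω : Module.Dual k (FunFld.adele k K)),
      ω ≠ 0 → ω ∈ FunFld.WD E → E.deg < N := by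
  obtain ⟨N, hN⟩ := (riemann hK).2
  refine ⟨N, fun E ω h0 hω => ?_⟩
  by_contra hlt
  push Not at hlt
  obtain ⟨hfd, hrk⟩ := WD_finrank hK E
  rw [hN E hlt, sub_self] at hrk
  have hbot : FunFld.WD E = ⊥ := Submodule.finrank_eq_zero.mp (by exact_mod_cast hrk)
  rw [hbot, Submodule.mem_bot] at hω
  exact h0 hω

theorem exists_isDivOf (hK : FunFld.IsFunctionField k K) (ω : Module.Dual k (FunFld.adele k K))
    (hω : FunFld.IsWeil ω) (h0 : ω ≠ 0) : ∃ C : FunFld.Divisor k K, FunFld.IsDivOf ω C := by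
  obtain ⟨N, hN⟩ := exists_deg_bound_WD hK
  obtain ⟨d, ⟨C, hC, rfl⟩, hmax⟩ := Int.exists_greatest_of_bdd
    (P := fun d => ∃ E : FunFld.Divisor k K, ω ∈ FunFld.WD E ∧ E.deg = d)
    ⟨N, fun z ⟨E, hE, hz⟩ => hz ▸ (hN E ω h0 hE).le⟩
    (by obtain ⟨E, hE⟩ := hω; exact ⟨E.deg, E, hE, rfl⟩)
  refine ⟨C, fun E => ⟨fun hE => ?_, fun hle => WD_anti hK hle hC⟩⟩
  have hsup := mem_WD_sup hK hE hC
  have h1 := hmax _ ⟨_, hsup, rfl⟩
  have h2 : C ≤ E ⊔ C := le_sup_right
  have h3 := deg_mono h2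
  have h4 : E ⊔ C - C = 0 := by
    apply eq_zero_of_nonneg_of_deg_eq_zero hK (sub_nonneg.mpr h2)
    rw [deg_sub]; omega
  have h5 : E ⊔ C = C := by
    have := congrArg (· + C) h4
    simpa using this
  rw [← h5]; exact le_sup_left

theorem isDivOf_unique {ω : Module.Dual k (FunFld.adele k K)}
    {C C' : FunFld.Divisor k K} (h : FunFld.IsDivOf ω C) (h' : FunFld.IsDivOf ω C') : C = C' :=
  le_antisymm ((h' C).mp ((h C).mpr le_rfl)) ((h C').mp ((h' C').mpr le_rfl))

theorem ne_zero_of_isDivOf (hK : FunFld.IsFunctionField k K)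
    {ω : Module.Dual k (FunFld.adele k K)} {C : FunFld.Divisor k K} (h : FunFld.IsDivOf ω C) :
    ω ≠ 0 := by
  classical
  intro h0
  obtain ⟨P⟩ := exists_place hK
  have h1 : ω ∈ FunFld.WD (C + Finsupp.single P 1) := by
    rw [h0]; exact Submodule.zero_mem _
  have h2 := (h _).mp h1
  have := h2 P
  simp at this

/-! ### Multiplying Weil differentials by functions -/

theorem smul_mem_adele (hK : FunFld.IsFunctionField k K) (x : K) :
    ∀ a ∈ FunFld.adele k K, x • a ∈ FunFld.adele k K := by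
  intro a ha
  have hx : ∀ᶠ P : FunFld.Place k K in Filter.cofinite, P.1 (FunFld.diag k K x P) ≤ 1 :=
    diag_mem_adele hK x
  have ha' : ∀ᶠ P : FunFld.Place k K in Filter.cofinite, P.1 (a P) ≤ 1 := ha
  show ∀ᶠ P : FunFld.Place k K in Filter.cofinite, P.1 ((x • a) P) ≤ 1
  refine (hx.and ha').mono fun P hP => ?_
  rw [Pi.smul_apply, smul_eq_mul, Valuation.map_mul]
  exact mul_le_one' hP.1 hP.2

lemma mulW_apply (x : K) (hx : ∀ a ∈ FunFld.adele k K, x • a ∈ FunFld.adele k K)
    (ω : Module.Dual k (FunFld.adele k K)) (a : FunFld.adele k K) :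
    FunFld.mulW x hx ω a = ω ⟨x • (a : FunFld.Place k K → K), hx a a.2⟩ := rfl

lemma mulW_add (x y : K) (hx : ∀ a ∈ FunFld.adele k K, x • a ∈ FunFld.adele k K)
    (hy : ∀ a ∈ FunFld.adele k K, y • a ∈ FunFld.adele k K)
    (hxy : ∀ a ∈ FunFld.adele k K, (x + y) • a ∈ FunFld.adele k K)
    (ω : Module.Dual k (FunFld.adele k K)) :
    FunFld.mulW (x + y) hxy ω = FunFld.mulW x hx ω + FunFld.mulW y hy ω := by
  ext a
  rw [LinearMap.add_apply, mulW_apply, mulW_apply, mulW_apply, ← map_add]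
  congr 1
  apply Subtype.ext
  simp [add_smul]

lemma mulW_smul (c : k) (x : K) (hx : ∀ a ∈ FunFld.adele k K, x • a ∈ FunFld.adele k K)
    (hcx : ∀ a ∈ FunFld.adele k K, (c • x) • a ∈ FunFld.adele k K)
    (ω : Module.Dual k (FunFld.adele k K)) :
    FunFld.mulW (c • x) hcx ω = c • FunFld.mulW x hx ω := by
  ext a
  rw [LinearMap.smul_apply, mulW_apply, mulW_apply, ← map_smul]
  congr 1
  apply Subtype.ext
  funext P
  change (c • x) * (a : FunFld.Place k K → K) P = c • (x * (a : FunFld.Place k K → K) P)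
  rw [smul_mul_assoc]

lemma mulW_mul (x y : K) (hx : ∀ a ∈ FunFld.adele k K, x • a ∈ FunFld.adele k K)
    (hy : ∀ a ∈ FunFld.adele k K, y • a ∈ FunFld.adele k K)
    (hxy : ∀ a ∈ FunFld.adele k K, (x * y) • a ∈ FunFld.adele k K)
    (ω : Module.Dual k (FunFld.adele k K)) :
    FunFld.mulW (x * y) hxy ω = FunFld.mulW y hy (FunFld.mulW x hx ω) := by
  ext a
  rw [mulW_apply, mulW_apply, mulW_apply]
  congr 1
  apply Subtype.ext
  funext P
  change (x * y) * (a : FunFld.Place k K → K) P = x * (y * (a : FunFld.Place k K → K) P)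
  ring

lemma mulW_one (h1 : ∀ a ∈ FunFld.adele k K, (1 : K) • a ∈ FunFld.adele k K)
    (ω : Module.Dual k (FunFld.adele k K)) : FunFld.mulW 1 h1 ω = ω := by
  ext a
  rw [mulW_apply]
  congr 1
  apply Subtype.ext
  simp

lemma mulW_zero_left (h0 : ∀ a ∈ FunFld.adele k K, (0 : K) • a ∈ FunFld.adele k K)
    (ω : Module.Dual k (FunFld.adele k K)) : FunFld.mulW 0 h0 ω = 0 := by
  ext a
  rw [mulW_apply, LinearMap.zero_apply]
  have : (⟨(0 : K) • (a : FunFld.Place k K → K), h0 a a.2⟩ : FunFld.adele k K) = 0 := by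
    apply Subtype.ext; simp
  rw [this, map_zero]

lemma mulW_zero_right (x : K) (hx : ∀ a ∈ FunFld.adele k K, x • a ∈ FunFld.adele k K) :
    FunFld.mulW x hx (0 : Module.Dual k (FunFld.adele k K)) = 0 := by
  ext a; rfl

theorem eq_zero_of_mulW_eq_zero (hK : FunFld.IsFunctionField k K) {x : K} (hx0 : x ≠ 0)
    (hx : ∀ a ∈ FunFld.adele k K, x • a ∈ FunFld.adele k K)
    {ω : Module.Dual k (FunFld.adele k K)} (h : FunFld.mulW x hx ω = 0) : ω = 0 := by
  have e := mulW_mul x x⁻¹ hx (smul_mem_adele hK x⁻¹) (smul_mem_adele hK (x * x⁻¹)) ω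
  rw [h, mulW_zero_right] at e
  have e2 : FunFld.mulW (x * x⁻¹) (smul_mem_adele hK (x * x⁻¹)) ω = ω := by
    have : x * x⁻¹ = 1 := mul_inv_cancel₀ hx0
    have key : ∀ (z : K) (hz : ∀ a ∈ FunFld.adele k K, z • a ∈ FunFld.adele k K), z = 1 →
        FunFld.mulW z hz ω = ω := by
      rintro z hz rfl; exact mulW_one hz ω
    exact key _ _ this
  rw [e2] at e
  exact e

lemma mul_exp_le_exp_iff (w : WithZero (Multiplicative ℤ)) (o e : ℤ) :
    WithZero.exp o * w ≤ WithZero.exp (e + o) ↔ w ≤ WithZero.exp e := by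
  by_cases hw : w = 0
  · subst hw; simp
  · rw [← WithZero.exp_log hw, ← WithZero.exp_add, WithZero.exp_le_exp, WithZero.exp_le_exp]
    omega

theorem smul_mem_AD_iff (hK : FunFld.IsFunctionField k K) {x : K} (hx0 : x ≠ 0)
    (a : FunFld.Place k K → K) (E : FunFld.Divisor k K) :
    x • a ∈ FunFld.AD (E - FunFld.div k x) ↔ a ∈ FunFld.AD E := by
  rw [mem_AD_iff, mem_AD_iff]
  refine forall_congr' fun P => ?_
  rw [Pi.smul_apply, smul_eq_mul, Valuation.map_mul, val_eq_exp_neg_ord P hx0, Finsupp.sub_apply,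
    div_apply hK, sub_eq_add_neg]
  exact mul_exp_le_exp_iff _ _ _

theorem mulW_mem_WD_iff (hK : FunFld.IsFunctionField k K) {x : K} (hx0 : x ≠ 0)
    (hx : ∀ a ∈ FunFld.adele k K, x • a ∈ FunFld.adele k K)
    (ω : Module.Dual k (FunFld.adele k K)) (E : FunFld.Divisor k K) :
    FunFld.mulW x hx ω ∈ FunFld.WD E ↔ ω ∈ FunFld.WD (E - FunFld.div k x) := by
  rw [mem_WD_iff hK, mem_WD_iff hK]
  constructor
  · rintro ⟨h1, h2⟩
    refine ⟨fun b hb => ?_, fun y => ?_⟩
    · have ha : x⁻¹ • b ∈ FunFld.AD E := by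
        rw [← smul_mem_AD_iff hK hx0]
        rwa [smul_smul, mul_inv_cancel₀ hx0, one_smul]
      have := h1 _ ha
      rw [mulW_apply] at this
      convert this using 2
      apply Subtype.ext
      change b = x • x⁻¹ • b
      rw [smul_smul, mul_inv_cancel₀ hx0, one_smul]
    · have := h2 (x⁻¹ * y)
      rw [mulW_apply] at this
      convert this using 2
      apply Subtype.ext
      funext P
      change y = x * (x⁻¹ * y)
      rw [← mul_assoc, mul_inv_cancel₀ hx0, one_mul]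
  · rintro ⟨h1, h2⟩
    refine ⟨fun a ha => ?_, fun y => ?_⟩
    · rw [mulW_apply]
      exact h1 _ ((smul_mem_AD_iff hK hx0 a E).mpr ha)
    · rw [mulW_apply]
      have := h2 (x * y)
      convert this using 2
      apply Subtype.ext; funext P; rfl

theorem isDivOf_mulW (hK : FunFld.IsFunctionField k K) {x : K} (hx0 : x ≠ 0)
    (hx : ∀ a ∈ FunFld.adele k K, x • a ∈ FunFld.adele k K)
    {ω : Module.Dual k (FunFld.adele k K)} {C : FunFld.Divisor k K} (hω : FunFld.IsDivOf ω C) :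
    FunFld.IsDivOf (FunFld.mulW x hx ω) (C + FunFld.div k x) := by
  intro E
  rw [mulW_mem_WD_iff hK hx0, hω, sub_le_iff_le_add]

lemma mulW_congr {x y : K} (hxy : x = y) (hx : ∀ a ∈ FunFld.adele k K, x • a ∈ FunFld.adele k K)
    (hy : ∀ a ∈ FunFld.adele k K, y • a ∈ FunFld.adele k K)
    (ω : Module.Dual k (FunFld.adele k K)) : FunFld.mulW x hx ω = FunFld.mulW y hy ω := by
  subst hxy; rfl

theorem mulW_mem_WD (hK : FunFld.IsFunctionField k K) {A D : FunFld.Divisor k K}
    {ω : Module.Dual k (FunFld.adele k K)} (hω : ω ∈ FunFld.WD A) {x : K}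
    (hx : x ∈ FunFld.L (A - D)) (hxa : ∀ a ∈ FunFld.adele k K, x • a ∈ FunFld.adele k K) :
    FunFld.mulW x hxa ω ∈ FunFld.WD D := by
  by_cases hx0 : x = 0
  · subst hx0; rw [mulW_zero_left]; exact Submodule.zero_mem _
  · rw [mulW_mem_WD_iff hK hx0]
    apply WD_anti hK _ hω
    have h1 := (mem_L_iff_div hK (A - D) hx0).mp hx
    intro P
    have h2 := h1 P
    simp only [Finsupp.coe_zero, Pi.zero_apply, Finsupp.add_apply, Finsupp.sub_apply] at h2 ⊢
    linarith

/-- Multiplication by `ω ∈ W(A)`, as a map `L(A - D) → W(D)`. -/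
noncomputable def mulWL (hK : FunFld.IsFunctionField k K) (A D : FunFld.Divisor k K)
    (ω : Module.Dual k (FunFld.adele k K)) (hω : ω ∈ FunFld.WD A) :
    FunFld.L (A - D) →ₗ[k] FunFld.WD D where
  toFun x := ⟨FunFld.mulW x.1 (smul_mem_adele hK x.1) ω,
    mulW_mem_WD hK hω x.2 (smul_mem_adele hK x.1)⟩
  map_add' x y := by
    apply Subtype.ext
    exact mulW_add x.1 y.1 (smul_mem_adele hK x.1) (smul_mem_adele hK y.1)
      (smul_mem_adele hK (x.1 + y.1)) ω
  map_smul' c x := by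
    apply Subtype.ext
    exact mulW_smul c x.1 (smul_mem_adele hK x.1) (smul_mem_adele hK (c • x.1)) ω

lemma mulWL_apply (hK : FunFld.IsFunctionField k K) (A D : FunFld.Divisor k K)
    (ω : Module.Dual k (FunFld.adele k K)) (hω : ω ∈ FunFld.WD A) (x : FunFld.L (A - D)) :
    ((mulWL hK A D ω hω x : FunFld.WD D) : Module.Dual k (FunFld.adele k K)) =
      FunFld.mulW x.1 (smul_mem_adele hK x.1) ω := rfl

theorem mulWL_injective (hK : FunFld.IsFunctionField k K) (A D : FunFld.Divisor k K)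
    (ω : Module.Dual k (FunFld.adele k K)) (hω : ω ∈ FunFld.WD A) (h0 : ω ≠ 0) :
    Function.Injective (mulWL hK A D ω hω) := by
  rw [injective_iff_map_eq_zero]
  intro x hx
  by_contra hne
  have hx0 : (x : K) ≠ 0 := fun h => hne (Subtype.ext h)
  exact h0 (eq_zero_of_mulW_eq_zero hK hx0 (smul_mem_adele hK x.1) (congrArg Subtype.val hx))

lemma deg_zero' : FunFld.Divisor.deg (0 : FunFld.Divisor k K) = 0 := by
  simp [FunFld.Divisor.deg]

lemma deg_neg (D : FunFld.Divisor k K) : (-D).deg = -D.deg := by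
  have := deg_sub 0 D
  rw [zero_sub, deg_zero'] at this
  rw [this, zero_sub]

theorem exists_mulW_eq (hK : FunFld.IsFunctionField k K)
    (ω₁ ω₂ : Module.Dual k (FunFld.adele k K)) (h₁ : FunFld.IsWeil ω₁) (h0 : ω₁ ≠ 0)
    (h₂ : FunFld.IsWeil ω₂) : ∃ x : K, FunFld.mulW x (smul_mem_adele hK x) ω₁ = ω₂ := by
  by_cases h20 : ω₂ = 0
  · exact ⟨0, by rw [h20, mulW_zero_left]⟩
  obtain ⟨A₁, hA₁⟩ := h₁
  obtain ⟨A₂, hA₂⟩ := h₂
  obtain ⟨B, hB0, hBdeg⟩ := exists_ge_deg hK 0
    (max 1 (3 * (FunFld.genus k K : ℤ) - 1 - A₁.deg - A₂.deg))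
  have hBdeg1 : 1 ≤ B.deg := (le_max_left _ _).trans hBdeg
  have hBdeg2 : 3 * (FunFld.genus k K : ℤ) - 1 - A₁.deg - A₂.deg ≤ B.deg :=
    (le_max_right _ _).trans hBdeg
  let f₁ := mulWL hK A₁ (-B) ω₁ hA₁
  let f₂ := mulWL hK A₂ (-B) ω₂ hA₂
  obtain ⟨hfdW, hWrk⟩ := WD_finrank hK (-B)
  have hLneg : FunFld.ell (-B) = 0 := by
    rw [FunFld.ell, L_eq_bot_of_deg_neg hK (-B) (by rw [deg_neg]; omega), finrank_bot]
  rw [hLneg, deg_neg, Nat.cast_zero] at hWrk
  have hfdL1 := finiteDimensional_L hK (A₁ - -B)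
  have hfdL2 := finiteDimensional_L hK (A₂ - -B)
  set R₁ : Submodule k (FunFld.WD (-B)) := LinearMap.range f₁ with hR₁
  set R₂ : Submodule k (FunFld.WD (-B)) := LinearMap.range f₂ with hR₂
  have r1 : Module.finrank k R₁ = FunFld.ell (A₁ - -B) :=
    LinearMap.finrank_range_of_inj (mulWL_injective hK A₁ (-B) ω₁ hA₁ h0)
  have r2 : Module.finrank k R₂ = FunFld.ell (A₂ - -B) :=
    LinearMap.finrank_range_of_inj (mulWL_injective hK A₂ (-B) ω₂ hA₂ h20)
  have g1 := le_genus hK (A₁ - -B)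
  have g2 := le_genus hK (A₂ - -B)
  rw [deg_sub, deg_neg] at g1 g2
  have hsup := @Submodule.finrank_sup_add_finrank_inf_eq k (FunFld.WD (-B)) _ _ _ R₁ R₂ _ _
  have hle := Submodule.finrank_le (R₁ ⊔ R₂)
  have hinf : R₁ ⊓ R₂ ≠ ⊥ := by
    intro hbot
    rw [hbot, finrank_bot] at hsup
    have e1 : (Module.finrank k ↥(R₁ ⊔ R₂) : ℤ) =
        FunFld.ell (A₁ - -B) + FunFld.ell (A₂ - -B) := by
      rw [← r1, ← r2]; exact_mod_cast hsup
    have e2 : (Module.finrank k ↥(R₁ ⊔ R₂) : ℤ) ≤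
        Module.finrank k (FunFld.WD (-B)) := by exact_mod_cast hle
    linarith
  obtain ⟨w, hw, hw0⟩ := Submodule.exists_mem_ne_zero_of_ne_bot hinf
  obtain ⟨⟨x₁, hx₁⟩, hx₁w⟩ := (Submodule.mem_inf.mp hw).1
  obtain ⟨⟨x₂, hx₂⟩, hx₂w⟩ := (Submodule.mem_inf.mp hw).2
  have e1 : FunFld.mulW x₁ (smul_mem_adele hK x₁) ω₁ = FunFld.mulW x₂ (smul_mem_adele hK x₂) ω₂ := by
    have := congrArg Subtype.val (hx₁w.trans hx₂w.symm)
    exact this
  have hx₂0 : x₂ ≠ 0 := by
    rintro rfl
    apply hw0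
    rw [← hx₂w]
    apply Subtype.ext
    rw [mulWL_apply]
    exact mulW_zero_left _ ω₂
  refine ⟨x₁ * x₂⁻¹, ?_⟩
  calc FunFld.mulW (x₁ * x₂⁻¹) (smul_mem_adele hK (x₁ * x₂⁻¹)) ω₁
      = FunFld.mulW x₂⁻¹ (smul_mem_adele hK x₂⁻¹)
          (FunFld.mulW x₁ (smul_mem_adele hK x₁) ω₁) := mulW_mul _ _ _ _ _ _
    _ = FunFld.mulW x₂⁻¹ (smul_mem_adele hK x₂⁻¹)
          (FunFld.mulW x₂ (smul_mem_adele hK x₂) ω₂) := by rw [e1]
    _ = FunFld.mulW (x₂ * x₂⁻¹) (smul_mem_adele hK (x₂ * x₂⁻¹)) ω₂ := (mulW_mul _ _ _ _ _ _).symm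
    _ = FunFld.mulW 1 (smul_mem_adele hK 1) ω₂ := mulW_congr (mul_inv_cancel₀ hx₂0) _ _ _
    _ = ω₂ := mulW_one _ _

theorem existsUnique_mulW (hK : FunFld.IsFunctionField k K)
    (h : ∀ (x : K), ∀ a ∈ FunFld.adele k K, x • a ∈ FunFld.adele k K)
    (ω : Module.Dual k (FunFld.adele k K)) (C : FunFld.Divisor k K) (hω : FunFld.IsDivOf ω C)
    (D : FunFld.Divisor k K) (ω' : Module.Dual k (FunFld.adele k K)) (hω' : ω' ∈ FunFld.WD D) :
    ∃! x : K, x ∈ FunFld.L (C - D) ∧ FunFld.mulW x (h x) ω = ω' := by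
  have h0 := ne_zero_of_isDivOf hK hω
  have hW : FunFld.IsWeil ω := ⟨C, (hω C).mpr le_rfl⟩
  obtain ⟨x, hx⟩ := exists_mulW_eq hK ω ω' hW h0 ⟨D, hω'⟩
  refine ⟨x, ⟨?_, hx⟩, ?_⟩
  · by_cases hx0 : x = 0
    · rw [hx0]; exact Submodule.zero_mem _
    · rw [mem_L_iff_div hK _ hx0]
      have h1 := (isDivOf_mulW hK hx0 (smul_mem_adele hK x) hω D).mp (hx ▸ hω')
      intro P
      have h2 := h1 P
      simp only [Finsupp.coe_zero, Pi.zero_apply, Finsupp.add_apply, Finsupp.sub_apply] at h2 ⊢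
      linarith
  · rintro y ⟨-, hy⟩
    by_contra hne
    have e : FunFld.mulW y (h y) ω =
        FunFld.mulW (y - x) (h (y - x)) ω + FunFld.mulW x (h x) ω := by
      rw [← mulW_add (y - x) x (h (y - x)) (h x) (h (y - x + x)) ω]
      exact mulW_congr (by ring) _ _ _
    have hx' : FunFld.mulW x (h x) ω = ω' := hx
    rw [hy, hx'] at e
    exact h0 (eq_zero_of_mulW_eq_zero hK (sub_ne_zero.mpr hne) _ (add_eq_right.mp e.symm))

theorem riemann_roch (hK : FunFld.IsFunctionField k K) (C : FunFld.Divisor k K)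
    (hC : FunFld.IsCanonical k K C) (D : FunFld.Divisor k K) :
    (FunFld.ell D : ℤ) = D.deg + 1 - FunFld.genus k K + FunFld.ell (C - D) := by
  obtain ⟨ω, h0, hω⟩ := hC
  have hωC : ω ∈ FunFld.WD C := (hω C).mpr le_rfl
  let F := mulWL hK C D ω hωC
  have hinj := mulWL_injective hK C D ω hωC h0
  have hsurj : Function.Surjective F := by
    intro w
    obtain ⟨x, ⟨hxL, hx⟩, -⟩ := existsUnique_mulW hK (smul_mem_adele hK) ω C hω D w.1 w.2
    exact ⟨⟨x, hxL⟩, Subtype.ext hx⟩
  have e := (LinearEquiv.ofBijective F ⟨hinj, hsurj⟩).finrank_eq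
  obtain ⟨-, hrk⟩ := WD_finrank hK D
  have : (FunFld.ell (C - D) : ℤ) = Module.finrank k (FunFld.WD D) := by
    unfold FunFld.ell; exact_mod_cast e
  linarith

theorem exists_canonical (hK : FunFld.IsFunctionField k K) :
    ∃ C : FunFld.Divisor k K, FunFld.IsCanonical k K C := by
  obtain ⟨P⟩ := exists_place hK
  set D : FunFld.Divisor k K := -Finsupp.single P 2
  have hdeg : D.deg = -(2 * P.deg) := by
    have := deg_sub 0 (Finsupp.single P 2 : FunFld.Divisor k K)
    simp only [zero_sub] at this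
    rw [this, deg_single]; simp [FunFld.Divisor.deg]
  have hP := place_deg_pos hK P
  have hL : FunFld.ell D = 0 := by
    rw [FunFld.ell, L_eq_bot_of_deg_neg hK D (by rw [hdeg]; omega), finrank_bot]
  obtain ⟨ω, h0, hω⟩ := exists_ne_zero_mem_WD_of_lt hK D (by rw [hdeg, hL]; push_cast; omega)
  obtain ⟨C, hC⟩ := exists_isDivOf hK ω ⟨D, hω⟩ h0
  exact ⟨C, ω, h0, hC⟩

theorem canonical_iff (hK : FunFld.IsFunctionField k K) (C : FunFld.Divisor k K) :
    FunFld.IsCanonical k K C ↔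
      (FunFld.ell C = FunFld.genus k K ∧ C.deg = 2 * FunFld.genus k K - 2) := by
  have hfwd : ∀ C, FunFld.IsCanonical k K C →
      (FunFld.ell C = FunFld.genus k K ∧ C.deg = 2 * FunFld.genus k K - 2) := by
    intro C hC
    have h1 := riemann_roch hK C hC 0
    have h2 := riemann_roch hK C hC C
    rw [sub_zero, ell_zero hK] at h1
    rw [sub_self, ell_zero hK] at h2
    have hd0 : FunFld.Divisor.deg (0 : FunFld.Divisor k K) = 0 := by simp [FunFld.Divisor.deg]
    rw [hd0] at h1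
    refine ⟨by omega, by omega⟩
  refine ⟨hfwd C, fun ⟨hℓ, hd⟩ => ?_⟩
  obtain ⟨C₀, hC₀⟩ := exists_canonical hK
  obtain ⟨hℓ₀, hd₀⟩ := hfwd C₀ hC₀
  have h1 := riemann_roch hK C₀ hC₀ C
  have hℓ1 : FunFld.ell (C₀ - C) = 1 := by omega
  have hne : FunFld.L (C₀ - C) ≠ ⊥ := by
    intro hbot
    rw [FunFld.ell, hbot, finrank_bot] at hℓ1
    exact zero_ne_one hℓ1
  obtain ⟨z, hz0, hz⟩ := (L_ne_bot_iff hK _).mp hne
  have hzero : C₀ - C + FunFld.div k z = 0 := by
    apply eq_zero_of_nonneg_of_deg_eq_zero hK hz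
    rw [deg_add_div hK, deg_sub]; omega
  obtain ⟨ω₀, h0, hω₀⟩ := hC₀
  refine ⟨FunFld.mulW z (smul_mem_adele hK z) ω₀, ?_, ?_⟩
  · intro h
    exact h0 (eq_zero_of_mulW_eq_zero hK hz0 _ h)
  · have := isDivOf_mulW hK hz0 (smul_mem_adele hK z) hω₀
    have e : C₀ + FunFld.div k z = C := by
      have := congrArg (· + C) hzero
      simp only [zero_add] at this
      rw [← this]; abel
    rwa [e] at this

theorem ell_eq_of_two_mul_genus_sub_one_le (hK : FunFld.IsFunctionField k K)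
    (D : FunFld.Divisor k K) (h : 2 * (FunFld.genus k K : ℤ) - 1 ≤ D.deg) :
    (FunFld.ell D : ℤ) = D.deg + 1 - FunFld.genus k K := by
  obtain ⟨C, hC⟩ := exists_canonical hK
  obtain ⟨-, hd⟩ := (canonical_iff hK C).mp hC
  have h1 := riemann_roch hK C hC D
  have h2 : FunFld.ell (C - D) = 0 := by
    rw [FunFld.ell, L_eq_bot_of_deg_neg hK (C - D) (by rw [deg_sub]; omega), finrank_bot]
  rw [h2] at h1
  simpa using h1

theorem canonical_linEquiv (hK : FunFld.IsFunctionField k K) (C₁ C₂ : FunFld.Divisor k K)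
    (h₁ : FunFld.IsCanonical k K C₁) (h₂ : FunFld.IsCanonical k K C₂) :
    ∃ x : K, x ≠ 0 ∧ C₂ = C₁ + FunFld.div k x := by
  obtain ⟨ω₁, h01, hω₁⟩ := h₁
  obtain ⟨ω₂, h02, hω₂⟩ := h₂
  obtain ⟨x, hx⟩ := exists_mulW_eq hK ω₁ ω₂ ⟨C₁, (hω₁ C₁).mpr le_rfl⟩ h01
    ⟨C₂, (hω₂ C₂).mpr le_rfl⟩
  have hx0 : x ≠ 0 := by
    rintro rfl
    apply h02
    rw [← hx]; exact mulW_zero_left _ _
  refine ⟨x, hx0, ?_⟩
  have := isDivOf_mulW hK hx0 (smul_mem_adele hK x) hω₁
  rw [hx] at this
  exact isDivOf_unique hω₂ this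

end Weil

section Consequences

theorem div_inv (hK : FunFld.IsFunctionField k K) (x : K) :
    FunFld.div k x⁻¹ = -FunFld.div k x := by
  ext P; rw [Finsupp.neg_apply, div_apply hK, div_apply hK, ord_inv]

theorem ord_mul (P : FunFld.Place k K) {a b : K} (ha : a ≠ 0) (hb : b ≠ 0) :
    P.ord (a * b) = P.ord a + P.ord b := by
  rw [ord_def, ord_def, ord_def, Valuation.map_mul,
    WithZero.log_mul ((Valuation.ne_zero_iff P.1).mpr ha) ((Valuation.ne_zero_iff P.1).mpr hb)]
  ring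

theorem div_mul (hK : FunFld.IsFunctionField k K) {a b : K} (ha : a ≠ 0) (hb : b ≠ 0) :
    FunFld.div k (a * b) = FunFld.div k a + FunFld.div k b := by
  ext P; rw [Finsupp.add_apply, div_apply hK, div_apply hK, div_apply hK, ord_mul P ha hb]

theorem genus_one_classes (hK : FunFld.IsFunctionField k K) (hg : FunFld.genus k K = 1)
    (P₀ : FunFld.Place k K) (hP : P₀.deg = 1) (D : FunFld.Divisor k K) (hD : D.deg = 0) :
    ∃! P : FunFld.Place k K, P.deg = 1 ∧
      ∃ x : K, x ≠ 0 ∧ D = Finsupp.single P 1 - Finsupp.single P₀ 1 + FunFld.div k x := by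
  classical
  have hdeg : (D + Finsupp.single P₀ 1).deg = 1 := by rw [deg_add, deg_single, hD, hP]; ring
  have hℓ := ell_eq_of_two_mul_genus_sub_one_le hK (D + Finsupp.single P₀ 1)
    (by rw [hdeg, hg]; norm_num)
  rw [hdeg, hg] at hℓ
  have hne : FunFld.L (D + Finsupp.single P₀ 1) ≠ ⊥ := by
    intro hbot
    rw [FunFld.ell, hbot, finrank_bot] at hℓ
    norm_num at hℓ
  obtain ⟨z, hz0, hz⟩ := (L_ne_bot_iff hK _).mp hne
  have hdeg2 : (D + Finsupp.single P₀ 1 + FunFld.div k z).deg = 1 := by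
    rw [deg_add_div hK, hdeg]
  obtain ⟨P, hPeq, hPdeg⟩ := exists_single_of_deg_eq_one hK hz hdeg2
  refine ⟨P, ⟨hPdeg, z⁻¹, inv_ne_zero hz0, ?_⟩, ?_⟩
  · rw [div_inv hK, ← hPeq]; abel
  · rintro P' ⟨hP'deg, x', hx'0, hx'⟩
    apply eq_of_single_sub_single_eq_div hK (by omega) P' P hPdeg (z⁻¹ * x'⁻¹)
    rw [div_mul hK (inv_ne_zero hz0) (inv_ne_zero hx'0), div_inv hK, div_inv hK]
    have h1 := hPeq
    rw [hx'] at h1
    rw [← h1]; abel

theorem mem_XD_of_deg (hK : FunFld.IsFunctionField k K) (A : FunFld.Divisor k K)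
    (h : 2 * (FunFld.genus k K : ℤ) - 1 ≤ A.deg) {α : FunFld.Place k K → K}
    (hα : α ∈ FunFld.adele k K) : α ∈ XD A := by
  obtain ⟨hfd, hrk⟩ := adele_quot hK A
  have hℓ := ell_eq_of_two_mul_genus_sub_one_le hK A h
  have h0 : Module.finrank k (↥(FunFld.adele k K) ⧸ FunFld.ADK A) = 0 := by omega
  have hs : Subsingleton (↥(FunFld.adele k K) ⧸ FunFld.ADK A) := Module.finrank_zero_iff.mp h0
  have : Submodule.Quotient.mk (p := FunFld.ADK A) (⟨α, hα⟩ : FunFld.adele k K) = 0 :=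
    Subsingleton.elim _ _
  rw [Submodule.Quotient.mk_eq_zero] at this
  exact this

theorem approx_core (hK : FunFld.IsFunctionField k K) (Pinf : FunFld.Place k K) (n : ℕ)
    (P : Fin n → FunFld.Place k K) (hP : Function.Injective P) (hinf : Pinf ∉ Set.range P)
    (a : Fin n → K) (r : Fin n → ℤ) :
    ∃ z : K, (∀ i, (P i).1 (z - a i) ≤ WithZero.exp (-(r i))) ∧
      ∀ Q : FunFld.Place k K, Q ≠ Pinf → Q ∉ Set.range P → Q.1 z ≤ 1 := by
  classical
  let α : FunFld.Place k K → K := Function.extend P a 0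
  have hαP : ∀ i, α (P i) = a i := fun i => hP.extend_apply a 0 i
  have hαQ : ∀ Q, Q ∉ Set.range P → α Q = 0 := fun Q hQ =>
    Function.extend_apply' (f := P) a (0 : FunFld.Place k K → K) Q
      (by rintro ⟨i, rfl⟩; exact hQ ⟨i, rfl⟩)
  have hα : α ∈ FunFld.adele k K := by
    show ∀ᶠ Q : FunFld.Place k K in Filter.cofinite, Q.1 (α Q) ≤ 1
    rw [Filter.eventually_cofinite]
    refine (Set.finite_range P).subset ?_
    intro Q hQ
    by_contra hQ'
    apply hQ
    rw [hαQ Q hQ', Valuation.map_zero]; exact zero_le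
  let E : FunFld.Divisor k K := ∑ i, Finsupp.single (P i) (r i)
  have hEP : ∀ j, E (P j) = r j := by
    intro j
    simp only [E, Finsupp.finsetSum_apply]
    rw [Finset.sum_eq_single j]
    · simp
    · intro i _ hij
      rw [Finsupp.single_eq_of_ne (fun h => hij (hP h).symm)]
    · intro h; exact absurd (Finset.mem_univ j) h
  have hEQ : ∀ Q, Q ∉ Set.range P → E Q = 0 := by
    intro Q hQ
    simp only [E, Finsupp.finsetSum_apply]
    refine Finset.sum_eq_zero fun i _ => ?_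
    rw [Finsupp.single_eq_of_ne (fun h => hQ ⟨i, h.symm⟩)]
  obtain ⟨Pp⟩ := exists_place hK
  set M : ℕ := (2 * (FunFld.genus k K : ℤ) - 1 + E.deg).toNat
  let A : FunFld.Divisor k K := Finsupp.single Pinf (M : ℤ) - E
  have hAdeg : 2 * (FunFld.genus k K : ℤ) - 1 ≤ A.deg := by
    simp only [A]
    rw [deg_sub, deg_single]
    have h1 : (1 : ℤ) ≤ Pinf.deg := by exact_mod_cast place_deg_pos hK Pinf
    have h2 := Int.self_le_toNat (2 * (FunFld.genus k K : ℤ) - 1 + E.deg)
    have h3 : (0 : ℤ) ≤ (M : ℤ) := by positivity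
    nlinarith
  have hmem := mem_XD_of_deg hK A hAdeg hα
  obtain ⟨b, hb, w, ⟨z, rfl⟩, hsum⟩ := Submodule.mem_sup.mp hmem
  refine ⟨z, fun i => ?_, fun Q hQ1 hQ2 => ?_⟩
  · have h1 := hb (P i)
    have h2 : b (P i) = a i - z := by
      have := congrFun hsum (P i)
      simp only [Pi.add_apply, diag_apply] at this
      rw [← hαP i, ← this]; ring
    have h3 : A (P i) = -(r i) := by
      simp only [A, Finsupp.sub_apply, hEP i]
      rw [Finsupp.single_eq_of_ne (fun h => hinf ⟨i, h⟩)]; ring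
    rw [h2, h3] at h1
    rw [← Valuation.map_neg, neg_sub]
    exact h1
  · have h1 := hb Q
    have h2 : b Q = -z := by
      have := congrFun hsum Q
      simp only [Pi.add_apply, diag_apply] at this
      rw [hαQ Q hQ2] at this
      rw [← sub_eq_zero, sub_neg_eq_add, this]
    have h3 : A Q = 0 := by
      simp only [A, Finsupp.sub_apply, hEQ Q hQ2]
      rw [Finsupp.single_eq_of_ne hQ1]; ring
    rw [h2, h3, WithZero.exp_zero, Valuation.map_neg] at h1
    exact h1

theorem strong_approximation (hK : FunFld.IsFunctionField k K) (Pinf : FunFld.Place k K) (n : ℕ)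
    (P : Fin n → FunFld.Place k K) (hP : Function.Injective P) (hinf : Pinf ∉ Set.range P)
    (x : Fin n → K) (m : Fin n → ℤ) :
    ∃ y : K, (∀ i, (P i).1 (y - x i) = WithZero.exp (-(m i))) ∧
      ∀ Q : FunFld.Place k K, Q ≠ Pinf → Q ∉ Set.range P → Q.1 y ≤ 1 := by
  obtain ⟨z, hz1, hz2⟩ := approx_core hK Pinf n P hP hinf x (fun i => m i + 1)
  have ht : ∀ i, ∃ t : K, (P i).1 t = WithZero.exp (-1) := fun i => place_exists_uniformizer (P i)
  choose t ht using ht
  have htm : ∀ i, (P i).1 (t i ^ (m i)) = WithZero.exp (-(m i)) := by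
    intro i
    rw [map_zpow₀, ht i, ← WithZero.exp_zsmul]; simp
  obtain ⟨y, hy1, hy2⟩ := approx_core hK Pinf n P hP hinf (fun i => t i ^ (m i)) (fun i => m i + 1)
  have hlt : ∀ i, WithZero.exp (-(m i + 1)) < WithZero.exp (-(m i)) := fun i =>
    WithZero.exp_lt_exp.mpr (by omega)
  have hy : ∀ i, (P i).1 y = WithZero.exp (-(m i)) := by
    intro i
    have e : y = (y - t i ^ (m i)) + t i ^ (m i) := by ring
    rw [e, Valuation.map_add_eq_of_lt_right, htm i]
    rw [htm i]; exact lt_of_le_of_lt (hy1 i) (hlt i)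
  refine ⟨z + y, fun i => ?_, fun Q hQ1 hQ2 => ?_⟩
  · have e : z + y - x i = (z - x i) + y := by ring
    rw [e, Valuation.map_add_eq_of_lt_right, hy i]
    rw [hy i]; exact lt_of_le_of_lt (hz1 i) (hlt i)
  · exact (Valuation.map_add _ _ _).trans (max_le (hz2 Q hQ1 hQ2) (hy2 Q hQ1 hQ2))

end Consequences

section GenusOne

/-- Dominance: a combination with a unique maximal valuation is nonzero. -/
theorem sum_ne_zero_of_unique_max (P : FunFld.Place k K) {n : ℕ} (e : Fin n → K) (d : Fin n → ℤ)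
    (he : ∀ i, P.1 (e i) = WithZero.exp (d i)) (c : Fin n → k) (i₀ : Fin n) (hi₀ : c i₀ ≠ 0)
    (huniq : ∀ i j, c i ≠ 0 → c j ≠ 0 → d i = d j → i = j) :
    ∑ i, c i • e i ≠ 0 := by
  classical
  let S := Finset.univ.filter (fun i => c i ≠ 0)
  have hS : S.Nonempty := ⟨i₀, by simp [S, hi₀]⟩
  obtain ⟨i, hiS, hmax⟩ := S.exists_max_image d hS
  have hci : c i ≠ 0 := (Finset.mem_filter.mp hiS).2
  have hvi : P.1 (c i • e i) = WithZero.exp (d i) := by
    rw [Algebra.smul_def, Valuation.map_mul, val_algebraMap_eq_one P.1 P.2.1 hci, one_mul, he]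
  have hrest : P.1 (∑ j ∈ Finset.univ.erase i, c j • e j) < WithZero.exp (d i) := by
    apply Valuation.map_sum_lt _ (WithZero.exp_ne_zero)
    intro j hj
    have hji : j ≠ i := Finset.ne_of_mem_erase hj
    by_cases hcj : c j = 0
    · rw [hcj, zero_smul, Valuation.map_zero]; exact zero_lt_iff.mpr WithZero.exp_ne_zero
    · rw [Algebra.smul_def, Valuation.map_mul, val_algebraMap_eq_one P.1 P.2.1 hcj, one_mul, he]
      apply WithZero.exp_lt_exp.mpr
      have h1 := hmax j (by simp [S, hcj])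
      have h2 : d j ≠ d i := fun h => hji (huniq j i hcj hci h)
      omega
  rw [← Finset.add_sum_erase _ _ (Finset.mem_univ i)]
  intro h0
  have hlt : P.1 (∑ j ∈ Finset.univ.erase i, c j • e j) < P.1 (c i • e i) := by
    rw [hvi]; exact hrest
  have := congrArg P.1 h0
  rw [P.1.map_add_eq_of_lt_left hlt, hvi, Valuation.map_zero] at this
  exact WithZero.exp_ne_zero this

theorem ord_eq_of_mem_L_single (P₀ : FunFld.Place k K) (n : ℤ) {x : K}
    (hx : x ∈ FunFld.L (Finsupp.single P₀ n))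
    (hx' : x ∉ FunFld.L (Finsupp.single P₀ (n - 1))) :
    x ≠ 0 ∧ P₀.ord x = -n ∧ ∀ Q : FunFld.Place k K, Q ≠ P₀ → 0 ≤ Q.ord x := by
  classical
  have hx0 : x ≠ 0 := by rintro rfl; exact hx' (Submodule.zero_mem _)
  refine ⟨hx0, ?_, ?_⟩
  · have h1 := hx P₀
    rw [Finsupp.single_eq_same, val_le_exp_iff P₀ hx0] at h1
    by_contra hne
    apply hx'
    intro Q
    by_cases hQ : Q = P₀
    · subst hQ; rw [Finsupp.single_eq_same, val_le_exp_iff Q hx0]; omega
    · have := hx Q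
      rwa [Finsupp.single_eq_of_ne hQ] at this ⊢
  · intro Q hQ
    have := hx Q
    rw [Finsupp.single_eq_of_ne hQ, WithZero.exp_zero, val_le_one_iff Q hx0] at this
    exact this

theorem poleDiv_eq_single (hK : FunFld.IsFunctionField k K) {x : K} (P₀ : FunFld.Place k K)
    (n : ℤ) (hn : 0 ≤ n) (h1 : P₀.ord x = -n) (h2 : ∀ Q, Q ≠ P₀ → 0 ≤ Q.ord x) :
    poleDiv (k := k) x = Finsupp.single P₀ n := by
  classical
  ext Q
  rw [poleDiv_apply hK, Finsupp.single_apply]
  by_cases hQ : Q = P₀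
  · subst hQ; rw [if_pos rfl, h1]; omega
  · rw [if_neg (Ne.symm hQ)]
    have := h2 Q hQ
    omega

theorem finrank_of_single_pole (hK : FunFld.IsFunctionField k K) {x : K} (P₀ : FunFld.Place k K)
    (hP : P₀.deg = 1) (n : ℕ) (hn : 0 < n) (h1 : P₀.ord x = -n)
    (h2 : ∀ Q, Q ≠ P₀ → 0 ≤ Q.ord x) :
    Transcendental k x ∧ Module.finrank k⟮x⟯ K = n := by
  have hx : Transcendental k x := by
    intro halg
    rw [ord_eq_zero_of_isAlgebraic hK halg P₀] at h1
    omega
  refine ⟨hx, ?_⟩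
  have hdeg := deg_poleDiv_eq hK hx
  rw [poleDiv_eq_single hK P₀ n (by positivity) h1 h2, deg_single, hP] at hdeg
  have : ((Module.finrank k⟮x⟯ K : ℕ) : ℤ) = n := by rw [← hdeg]; simp
  exact_mod_cast this

theorem ell_single_of_genus_one (hK : FunFld.IsFunctionField k K) (hg : FunFld.genus k K = 1)
    (P₀ : FunFld.Place k K) (hP : P₀.deg = 1) (n : ℕ) (hn : 1 ≤ n) :
    FunFld.ell (Finsupp.single P₀ (n : ℤ)) = n := by
  have h := ell_eq_of_two_mul_genus_sub_one_le hK (Finsupp.single P₀ (n : ℤ))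
    (by rw [deg_single, hP, hg]; push_cast; omega)
  rw [deg_single, hP, hg] at h
  push_cast at h
  omega

theorem exists_mem_L_single_not_mem (hK : FunFld.IsFunctionField k K)
    (P₀ : FunFld.Place k K) (n : ℤ)
    (h : FunFld.ell (Finsupp.single P₀ (n - 1)) < FunFld.ell (Finsupp.single P₀ n)) :
    ∃ x : K, x ∈ FunFld.L (Finsupp.single P₀ n) ∧ x ∉ FunFld.L (Finsupp.single P₀ (n - 1)) := by
  have hle : FunFld.L (Finsupp.single P₀ (n - 1)) ≤ FunFld.L (Finsupp.single P₀ n) :=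
    L_mono (Finsupp.single_le_single.mpr (by omega))
  have hne : FunFld.L (Finsupp.single P₀ (n - 1)) ≠ FunFld.L (Finsupp.single P₀ n) := by
    intro heq
    rw [FunFld.ell, FunFld.ell, heq] at h
    exact lt_irrefl _ h
  obtain ⟨x, hx, hx'⟩ := SetLike.exists_of_lt (lt_of_le_of_ne hle hne)
  exact ⟨x, hx, hx'⟩

theorem mem_L_single_of (P₀ : FunFld.Place k K) (m : ℤ) {z : K}
    (h1 : ∀ Q : FunFld.Place k K, Q ≠ P₀ → Q.1 z ≤ 1) (h2 : P₀.1 z ≤ WithZero.exp m) :
    z ∈ FunFld.L (Finsupp.single P₀ m) := by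
  classical
  intro Q
  by_cases hQ : Q = P₀
  · subst hQ; rw [Finsupp.single_eq_same]; exact h2
  · rw [Finsupp.single_eq_of_ne hQ, WithZero.exp_zero]; exact h1 Q hQ

theorem genus_one_weierstrass (hK : FunFld.IsFunctionField k K) (hg : FunFld.genus k K = 1)
    (P₀ : FunFld.Place k K) (hP : P₀.deg = 1) :
    ∃ x y : K, x ∈ FunFld.L (Finsupp.single P₀ 2) ∧ y ∈ FunFld.L (Finsupp.single P₀ 3) ∧
      P₀.ord x = -2 ∧ P₀.ord y = -3 ∧
      IntermediateField.adjoin k ({x, y} : Set K) = ⊤ ∧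
      ∃ f g : Polynomial k, f.natDegree ≤ 1 ∧ g.natDegree = 3 ∧
        y ^ 2 + Polynomial.aeval x f * y + Polynomial.aeval x g = 0 := by
  classical
  have hℓ := ell_single_of_genus_one hK hg P₀ hP
  obtain ⟨x, hxL, hxL'⟩ := exists_mem_L_single_not_mem hK P₀ 2 (by
    have h1 := hℓ 1 le_rfl; have h2 := hℓ 2 (by norm_num)
    norm_num at h1 h2 ⊢; omega)
  obtain ⟨y, hyL, hyL'⟩ := exists_mem_L_single_not_mem hK P₀ 3 (by
    have h1 := hℓ 2 (by norm_num); have h2 := hℓ 3 (by norm_num)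
    norm_num at h1 h2 ⊢; omega)
  obtain ⟨hx0, hxo, hxQ⟩ := ord_eq_of_mem_L_single P₀ 2 hxL hxL'
  obtain ⟨hy0, hyo, hyQ⟩ := ord_eq_of_mem_L_single P₀ 3 hyL hyL'
  refine ⟨x, y, hxL, hyL, hxo, hyo, ?_, ?_⟩
  · -- K = k(x, y)
    obtain ⟨-, hx2⟩ := finrank_of_single_pole hK P₀ hP 2 (by norm_num) (by rw [hxo]; rfl) hxQ
    obtain ⟨-, hy3⟩ := finrank_of_single_pole hK P₀ hP 3 (by norm_num) (by rw [hyo]; rfl) hyQ
    have hxE : k⟮x⟯ ≤ IntermediateField.adjoin k ({x, y} : Set K) :=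
      IntermediateField.adjoin.mono _ _ _ (by simp)
    have hyE : k⟮y⟯ ≤ IntermediateField.adjoin k ({x, y} : Set K) :=
      IntermediateField.adjoin.mono _ _ _ (by simp)
    have d1 := IntermediateField.finrank_dvd_of_le_left hxE
    have d2 := IntermediateField.finrank_dvd_of_le_left hyE
    rw [hx2] at d1
    rw [hy3] at d2
    have h1 : Module.finrank (IntermediateField.adjoin k ({x, y} : Set K)) K = 1 := by
      have := Nat.dvd_gcd d1 d2
      norm_num at this
      exact this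
    exact IntermediateField.finrank_eq_one_iff_eq_top.mp h1
  · -- the cubic relation
    have hvx : P₀.1 x = WithZero.exp 2 := by rw [val_eq_exp_neg_ord P₀ hx0, hxo]; rfl
    have hvy : P₀.1 y = WithZero.exp 3 := by rw [val_eq_exp_neg_ord P₀ hy0, hyo]; rfl
    have hxQ' : ∀ Q, Q ≠ P₀ → Q.1 x ≤ 1 := fun Q hQ => (val_le_one_iff Q hx0).mpr (hxQ Q hQ)
    have hyQ' : ∀ Q, Q ≠ P₀ → Q.1 y ≤ 1 := fun Q hQ => (val_le_one_iff Q hy0).mpr (hyQ Q hQ)
    let e : Fin 7 → K := ![1, x, y, x ^ 2, x * y, x ^ 3, y ^ 2]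
    let d : Fin 7 → ℤ := ![0, 2, 3, 4, 5, 6, 6]
    have he : ∀ i, P₀.1 (e i) = WithZero.exp (d i) := by
      intro i
      fin_cases i <;>
        simp [e, d, Valuation.map_mul, Valuation.map_pow, hvx, hvy, ← WithZero.exp_add,
          ← WithZero.exp_nsmul]
    have heQ : ∀ i, ∀ Q, Q ≠ P₀ → Q.1 (e i) ≤ 1 := by
      intro i Q hQ
      have hx1 := hxQ' Q hQ
      have hy1 := hyQ' Q hQ
      fin_cases i <;> simp [e, Valuation.map_mul, Valuation.map_pow] <;>
        first
        | exact hx1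
        | exact hy1
        | exact pow_le_one₀ zero_le hx1
        | exact pow_le_one₀ zero_le hy1
        | exact mul_le_one' hx1 hy1
    have hmem : ∀ i, e i ∈ FunFld.L (Finsupp.single P₀ 6) := by
      intro i
      refine mem_L_single_of P₀ 6 (heQ i) ?_
      rw [he i, WithZero.exp_le_exp]
      fin_cases i <;> simp [d]
    have hnot : ¬ LinearIndependent k e := by
      intro hli
      let w : Fin 7 → FunFld.L (Finsupp.single P₀ 6) := fun i => ⟨e i, hmem i⟩
      have hw : LinearIndependent k w := by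
        apply LinearIndependent.of_comp (FunFld.L (Finsupp.single P₀ 6)).subtype
        exact hli
      have := finiteDimensional_L hK (Finsupp.single P₀ 6)
      have hcard := hw.fintype_card_le_finrank
      rw [Fintype.card_fin] at hcard
      have h6 := hℓ 6 (by norm_num)
      unfold FunFld.ell at h6
      push_cast at h6
      omega
    obtain ⟨c, hc, i₀, hi₀⟩ := Fintype.not_linearIndependent_iff.mp hnot
    have hc56 : c 5 ≠ 0 ∧ c 6 ≠ 0 := by
      by_contra hcon
      apply sum_ne_zero_of_unique_max P₀ e d he c i₀ hi₀ _ hc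
      intro i j hi hj hij
      fin_cases i <;> fin_cases j <;> simp [d] at hij ⊢ <;> tauto
    obtain ⟨hc5, hc6⟩ := hc56
    refine ⟨Polynomial.C (c 4 / c 6) * Polynomial.X + Polynomial.C (c 2 / c 6),
      Polynomial.C (c 5 / c 6) * Polynomial.X ^ 3 + Polynomial.C (c 3 / c 6) * Polynomial.X ^ 2 +
        Polynomial.C (c 1 / c 6) * Polynomial.X + Polynomial.C (c 0 / c 6),
      Polynomial.natDegree_linear_le, Polynomial.natDegree_cubic (div_ne_zero hc5 hc6), ?_⟩
    rw [Fin.sum_univ_seven] at hc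
    simp only [e, Matrix.cons_val, Algebra.smul_def] at hc
    have hc6' : algebraMap k K (c 6) ≠ 0 := by
      rw [map_ne_zero_iff _ (algebraMap k K).injective]; exact hc6
    have key : algebraMap k K (c 6) * (y ^ 2 +
        Polynomial.aeval x (Polynomial.C (c 4 / c 6) * Polynomial.X + Polynomial.C (c 2 / c 6)) * y +
        Polynomial.aeval x (Polynomial.C (c 5 / c 6) * Polynomial.X ^ 3 +
          Polynomial.C (c 3 / c 6) * Polynomial.X ^ 2 + Polynomial.C (c 1 / c 6) * Polynomial.X +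
          Polynomial.C (c 0 / c 6))) =
        algebraMap k K (c 0) * 1 + algebraMap k K (c 1) * x + algebraMap k K (c 2) * y +
          algebraMap k K (c 3) * x ^ 2 + algebraMap k K (c 4) * (x * y) +
          algebraMap k K (c 5) * x ^ 3 + algebraMap k K (c 6) * y ^ 2 := by
      simp only [map_add, map_mul, Polynomial.aeval_C, Polynomial.aeval_X, map_pow, map_div₀]
      field_simp
      ring
    rw [hc] at key
    exact (mul_eq_zero.mp key).resolve_left hc6'

end GenusOne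

end Groth.Agent.Lib.Helper16.FunFldLib
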